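import Mathlib

/-!
# Norms of trace sums over a cyclic group of order `q² - q + 1` avoid small subfields

Expanded into characters of the cyclic group, `(z k + …)(z / k + …)` has six non-trivial characters, and
raising to a small power moves one of them outside the list.
-/

set_option autoImplicit false
set_option linter.unusedSectionVars false

open Finset

namespace CfsgLib.Classical.GeoThree.SU.Singer

/-- The coefficient of a character which occurs once in a vanishing combination is zero. -/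
theorem coeff_eq_zero {ι M K : Type*} [Fintype ι] [Monoid M] [Field K] (χ : ι → M →* K) (a : ι → K)
    (h : ∀ m, ∑ i, a i * χ i m = 0) (i₀ : ι) (hne : ∀ i, i ≠ i₀ → χ i ≠ χ i₀) : a i₀ = 0 := by
  classical
  have hli := linearIndependent_monoidHom M K
  rw [linearIndependent_iff'] at hli
  have hz : ∑ ψ ∈ univ.image χ, (∑ i with χ i = ψ, a i) • (⇑ψ : M → K) = 0 := by
    funext m
    rw [Finset.sum_apply, Pi.zero_apply, ← h m]
    conv_rhs => rw [← Finset.sum_fiberwise_of_maps_to (t := univ.image χ) (g := χ) fun i _ =>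
      mem_image_of_mem χ (mem_univ i)]
    refine Finset.sum_congr rfl fun ψ _ => ?_
    rw [Pi.smul_apply, smul_eq_mul, Finset.sum_mul]
    refine Finset.sum_congr rfl fun i hi => ?_
    rw [(Finset.mem_filter.1 hi).2]
  have h0 := hli _ _ hz (χ i₀) (mem_image_of_mem χ (mem_univ i₀))
  rwa [Finset.sum_eq_single i₀ (fun i hi hne' => absurd (Finset.mem_filter.1 hi).2 (hne i hne'))
    (fun hi => absurd (by simp) hi)] at h0

variable {K : Type*} [Field K]

/-- The exponents of the characters in the expansion. -/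
def expo (q : ℤ) : Fin 7 → ℤ := ![q - 2, 2 - q, 2 * q - 1, 1 - 2 * q, q + 1, -q - 1, 0]

theorem dvd_small {q d : ℤ} (h : q ^ 2 - q + 1 ∣ d) (h1 : -(q ^ 2 - q + 1) < d) (h2 : d < q ^ 2 - q + 1) :
    d = 0 :=
  Int.eq_zero_of_abs_lt_dvd h (abs_lt.2 ⟨h1, h2⟩)

theorem expo_ne {q : ℤ} (hq : 4 ≤ q) (i : Fin 7) (hi : i ≠ 0) : ¬ q ^ 2 - q + 1 ∣ expo q i - expo q 0 := by
  intro hd
  fin_cases i <;> simp [expo] at hd hi ⊢ <;>
    (have := dvd_small hd (by nlinarith) (by nlinarith); omega)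

theorem expo_ne_mul {q s : ℤ} (hq : 4 ≤ q) (h5 : q ≠ 5) (hs2 : 2 ≤ s) (hsq : s * s ≤ q) (i : Fin 7) :
    ¬ q ^ 2 - q + 1 ∣ expo q i - s * expo q 0 := by
  intro hd
  have hs1 : (s + 1) * (q - 2) ≤ (q - 1) * (q - 2) := mul_le_mul_of_nonneg_right (by nlinarith) (by omega)
  have hs0 : 2 * (q - 2) ≤ s * (q - 2) := mul_le_mul_of_nonneg_right hs2 (by omega)
  have hs3 : s ≠ 2 → 3 * (q - 2) ≤ s * (q - 2) := fun h => mul_le_mul_of_nonneg_right (by omega) (by omega)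
  fin_cases i <;> simp [expo] at hd ⊢ <;>
    (have h0 := dvd_small hd (by nlinarith) (by nlinarith)
     rcases eq_or_ne s 2 with rfl | h2
     · omega
     · have := hs3 h2; nlinarith)

/-- Not all values `c · f k` lie in a field of order `s` with `s² ≤ q`. -/
theorem not_fixed_pow [Finite K] {q s j : ℕ} (hq : 4 ≤ q) (h5 : q ≠ 5) (hs2 : 2 ≤ s) (hsq : s * s ≤ q)
    (hj : q = s ^ j) {p : ℕ} [ExpChar K p] (hp : ∃ n, s = p ^ n) (hK : q ^ 2 - q + 1 ∣ Nat.card Kˣ)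
    {c z z₁ z₂ : K} (hc : c ≠ 0) (hz : z ≠ 0) (hz₁ : z₁ ≠ 0) (hz₂ : z₂ ≠ 0)
    (h : ∀ k : Kˣ, k ^ (q ^ 2 - q + 1) = 1 →
      (c * ((z * k + z₁ * (k : K) ^ ((q : ℤ) - 1) + z₂ * (k : K) ^ (-(q : ℤ))) *
        (z * (k : K) ^ (-1 : ℤ) + z₁ * (k : K) ^ (-((q : ℤ) - 1)) + z₂ * (k : K) ^ (q : ℤ)))) ^ s =
      c * ((z * k + z₁ * (k : K) ^ ((q : ℤ) - 1) + z₂ * (k : K) ^ (-(q : ℤ))) *
        (z * (k : K) ^ (-1 : ℤ) + z₁ * (k : K) ^ (-((q : ℤ) - 1)) + z₂ * (k : K) ^ (q : ℤ)))) : False := by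
  classical
  set N := q ^ 2 - q + 1 with hN
  have hNpos : 0 < N := by omega
  have hNz : ((N : ℕ) : ℤ) = (q : ℤ) ^ 2 - q + 1 := by
    rw [hN, Nat.cast_add, Nat.cast_sub (by nlinarith)]
    push_cast
    ring
  set T : Subgroup Kˣ := (powMonoidHom N).ker with hT
  have hcardT : Nat.card T = N := by rw [hT, IsCyclic.card_powMonoidHom_ker, Nat.gcd_eq_right hK]
  obtain ⟨g, hg⟩ := IsCyclic.exists_generator (α := T)
  have hgord : orderOf (g : Kˣ) = N := by
    rw [Subgroup.orderOf_coe, orderOf_eq_card_of_forall_mem_zpowers hg, hcardT]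
  let ch : ℤ → T →* K := fun e =>
    { toFun := fun k => ((k : Kˣ) : K) ^ e
      map_one' := by simp
      map_mul' := fun a b => by simp [mul_zpow] }
  have chne : ∀ e e' : ℤ, ¬ (q : ℤ) ^ 2 - q + 1 ∣ e - e' → ch e ≠ ch e' := by
    intro e e' hnd heq
    apply hnd
    have := DFunLike.congr_fun heq g
    simp only [ch, MonoidHom.coe_mk, OneHom.coe_mk, ← Units.val_zpow_eq_zpow_val, Units.val_inj] at this
    rw [← hNz, ← hgord]
    exact Int.ModEq.dvd (zpow_eq_zpow_iff_modEq.1 this).symm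
  set co : Fin 7 → K := ![z₁ * z, z * z₁, z₁ * z₂, z₂ * z₁, z * z₂, z₂ * z, z * z + z₁ * z₁ + z₂ * z₂] with hco
  have hexp : ∀ k : T, c * (((z * ((k : Kˣ) : K) + z₁ * ((k : Kˣ) : K) ^ ((q : ℤ) - 1) + z₂ * ((k : Kˣ) : K) ^ (-(q : ℤ))) *
        (z * ((k : Kˣ) : K) ^ (-1 : ℤ) + z₁ * ((k : Kˣ) : K) ^ (-((q : ℤ) - 1)) + z₂ * ((k : Kˣ) : K) ^ (q : ℤ)))) =
      ∑ i, c * co i * ch (expo q i) k := by
    intro k
    have hk := (k : Kˣ).ne_zero
    simp only [Fin.sum_univ_seven, hco, expo, ch, MonoidHom.coe_mk, OneHom.coe_mk, Matrix.cons_val, zpow_sub₀ hk,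
      zpow_neg, zpow_add₀ hk, zpow_one, zpow_zero, zpow_mul, two_mul, neg_sub, sub_eq_add_neg, neg_neg,
      zpow_natCast, zpow_ofNat]
    field_simp
    ring
  have hexp' : ∀ k : T, (∑ i, c * co i * ch (expo q i) k) ^ s = ∑ i, (c * co i) ^ s * ch (s * expo q i) k := by
    intro k
    obtain ⟨n, rfl⟩ := hp
    rw [sum_pow_char_pow]
    refine Finset.sum_congr rfl fun i _ => ?_
    rw [mul_pow]
    congr 1
    show (((k : Kˣ) : K) ^ expo (q : ℤ) i) ^ (p ^ n) = ((k : Kˣ) : K) ^ (((p ^ n : ℕ) : ℤ) * expo q i)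
    rw [mul_comm, zpow_mul, zpow_natCast]
  let χ : Fin 7 ⊕ Fin 7 → T →* K := Sum.elim (fun i => ch (s * expo q i)) fun i => ch (expo q i)
  let a : Fin 7 ⊕ Fin 7 → K := Sum.elim (fun i => (c * co i) ^ s) fun i => -(c * co i)
  have hzero : ∀ k, ∑ i, a i * χ i k = 0 := by
    intro k
    have hk := h (k : Kˣ) (MonoidHom.mem_ker.1 k.2)
    rw [hexp, hexp'] at hk
    simp only [Fintype.sum_sum_type, a, χ, Sum.elim_inl, Sum.elim_inr, neg_mul, Finset.sum_neg_distrib, hk,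
      add_neg_cancel]
  have hcop : IsCoprime ((q : ℤ) ^ 2 - q + 1) (s : ℤ) := by
    have hc1 : IsCoprime ((q : ℤ) ^ 2 - q + 1) ((s : ℤ) ^ j) := ⟨1, 1 - (q : ℤ), by
      rw [show ((s : ℤ) ^ j) = (q : ℤ) by rw [hj]; push_cast; ring]; ring⟩
    rcases j.eq_zero_or_pos with rfl | hj0
    · rw [pow_zero] at hj; omega
    · exact (IsCoprime.pow_right_iff hj0).1 hc1
  have h0 := coeff_eq_zero χ a hzero (Sum.inl 0) (by
    rintro (i | i) hi
    · refine chne _ _ fun hd => expo_ne (q := (q : ℤ)) (by omega) i (fun e => hi (by rw [e])) ?_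
      rw [← mul_sub] at hd
      exact hcop.dvd_of_dvd_mul_left hd
    · exact chne _ _ (expo_ne_mul (by omega) (by omega) (by omega) (by exact_mod_cast hsq) i))
  simp only [a, Sum.elim_inl, hco, Matrix.cons_val_zero] at h0
  exact pow_ne_zero _ (mul_ne_zero hc (mul_ne_zero hz₁ hz)) h0

end CfsgLib.Classical.GeoThree.SU.Singer
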