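import Cfsg.Agent.Lib.Classical.GeoThree.SU.Singer.Torus
import Mathlib.FieldTheory.Galois.NormalBasis

/-!
# The Frobenius element of the unitary Singer normaliser

The form in the coordinates of the field is `Tr (β x' y)` with `β` fixed by the adjoint, and
`x ↦ β ^ ((q² - 1) / 2) x ^ (q²)` is unitary of determinant one.
-/

set_option autoImplicit false
set_option linter.unusedSectionVars false
set_option linter.style.haveILetI false
set_option backward.isDefEq.respectTransparency false

open Matrix Module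

namespace CfsgLib.Classical.GeoThree.SU.Singer

open CfsgLib.Classical
open Cfsg.Geo (specialLinear subalgebraNormalizer)

variable {F K : Type*} [Field F] [Fintype F] [Field K] [Finite K] [Algebra F K] {q : ℕ} {σ : F →+* F}

local notation "M3" => Matrix (Fin 3) (Fin 3) F
local notation "G3" => GL (Fin 3) F
local notation "B" => stdHerm σ 3
local notation "Tr" => Algebra.trace F K

/-- An automorphism of order dividing three of a finite extension has determinant one. -/
theorem det_algEquiv (φ : K ≃ₐ[F] K) (h3 : φ ^ 3 = 1) : LinearMap.det φ.toLinearMap = 1 := by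
  classical
  haveI : Fintype (K ≃ₐ[F] K) := Fintype.ofFinite _
  haveI : Module.Finite F K := Module.Finite.of_finite
  haveI : IsGalois F K := inferInstance
  obtain ⟨x, hx⟩ := exists_linearIndependent_algEquiv_apply F K
  let b := basisOfLinearIndependentOfCardEqFinrank hx
    (Fintype.card_eq_nat_card.trans (IsGalois.card_aut_eq_finrank F K))
  have hb : ∀ τ, b τ = τ x := fun τ => by simp [b]
  have h : φ.toLinearMap ∘ b = b ∘ Equiv.mulLeft φ := funext fun τ => by
    rw [Function.comp_apply, Function.comp_apply, hb, hb, Equiv.coe_mulLeft]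
    rfl
  have h1 := b.det_comp φ.toLinearMap b
  rw [h, b.det.map_perm, b.det_self, mul_one] at h1
  have hs : Equiv.Perm.sign (Equiv.mulLeft φ) = 1 := by
    rcases Int.units_eq_one_or (Equiv.Perm.sign (Equiv.mulLeft φ)) with e | e
    · exact e
    · have hp : (Equiv.mulLeft φ : Equiv.Perm _) ^ 3 = 1 := by
        rw [Equiv.pow_mulLeft, h3]
        ext τ
        simp
      have := congrArg Equiv.Perm.sign hp
      rw [map_pow, e, map_one] at this
      exact absurd this (by decide)
  rw [hs, one_smul] at h1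
  exact h1.symm

variable (S : Torus F K q σ)
include S

/-- The normaliser in `SU₃` induces the Frobenius map. -/
theorem Torus.exists_frob (hodd : Odd q) :
    ∃ g : G3, g ∈ Cfsg.GU 3 F q ⊓ specialLinear (Fin 3) F ∧ g ∈ subalgebraNormalizer S.D.ρ.range ∧
      ∀ k : Kˣ, g * S.D.toGL k * g⁻¹ = S.D.toGL (k ^ q ^ 2) := by
  classical
  haveI : Module.Finite F K := Module.Finite.of_finite
  haveI := Fintype.ofFinite K
  have hcardK : Fintype.card K = q ^ 6 := by rw [← Nat.card_eq_fintype_card, S.natCard_K]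
  have hh := stdHerm_isHermitian S.conj 3
  obtain ⟨β, hβ⟩ := S.D.dual_surjective S.dim fun i => σ (S.D.Φ 1 i)
  have hform : ∀ x y : K, B (S.D.Φ x) (S.D.Φ y) = Tr (β * (x ^ q ^ 3 * y)) := fun x y => by
    conv_lhs => rw [← mul_one x, ← S.D.act]
    rw [S.τ_spec, S.D.act, S.τ_eq, ← conj_dot, ← hβ, S.D.dual_dot]
  have hβ0 : β ≠ 0 := fun h => by
    have h1 : S.D.Φ 1 = 0 := by
      funext i
      have := congrFun hβ i
      rw [h] at this
      simp [GeoThree.Singer.Frame.dual] at this
      exact (map_eq_zero σ).1 this.symm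
    rw [S.D.Φ.map_eq_zero_iff] at h1
    exact one_ne_zero h1
  obtain ⟨p, n, hp, hpF, hpK, hqn⟩ := S.exists_char
  haveI := Fact.mk hp
  have hfrob : ∀ (e : ℕ) (a b : K), (a + b) ^ q ^ e = a ^ q ^ e + b ^ q ^ e := fun e a b => by
    rw [hqn, ← pow_mul, add_pow_char_pow]
  -- the multiplier is fixed by the adjoint
  have hβfix : β ^ q ^ 3 = β := by
    have hsum : ∀ z : K, algebraMap F K (Tr z) = z + z ^ q ^ 2 + z ^ q ^ 4 := fun z => by
      rw [FiniteField.algebraMap_trace_eq_sum_pow, S.dim, S.natCard_F]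
      simp only [Finset.sum_range_succ, Finset.sum_range_zero, zero_add, pow_zero, pow_one]
      rw [← pow_mul]
    have key : ∀ z : K, σ (Tr z) = Tr (z ^ q ^ 3) := fun z => by
      refine (algebraMap F K).injective ?_
      rw [S.frob, map_pow, hsum, hsum, show q = q ^ 1 from (pow_one q).symm, hfrob, hfrob]
      simp only [← pow_mul, ← pow_add, pow_one]
      rw [show z ^ q ^ (3 + 4) = z ^ q ^ 1 by rw [show 3 + 4 = 6 + 1 from rfl, pow_add, pow_mul, S.frob_six]]
      simp only [Nat.reduceAdd, pow_one]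
      ring
    refine sub_eq_zero.1 (GeoThree.Singer.trace_mul_nondeg (F := F) fun w => ?_)
    have e := hh.symm (S.D.Φ 1) (S.D.Φ (w ^ q ^ 3))
    rw [hform, hform, key, one_pow, one_mul, mul_one, mul_pow] at e
    have hw : (w ^ q ^ 3) ^ q ^ 3 = w := by rw [← pow_mul, ← pow_add]; exact S.frob_six w
    rw [hw] at e
    rw [sub_mul, map_sub, e, sub_self]
  obtain ⟨m, hm⟩ := hodd
  let φ : K ≃ₐ[F] K := FiniteField.frobeniusAlgEquivOfAlgebraic F K
  have hφ : ∀ x, φ x = x ^ q ^ 2 := fun x => by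
    show FiniteField.frobeniusAlgEquivOfAlgebraic F K x = _
    rw [FiniteField.coe_frobeniusAlgEquivOfAlgebraic, S.card]
  have hφ3 : φ ^ 3 = 1 := AlgEquiv.ext fun x => by
    rw [pow_succ, pow_two, AlgEquiv.mul_apply, AlgEquiv.mul_apply, hφ, hφ, hφ, AlgEquiv.one_apply, ← pow_mul,
      ← pow_mul, ← pow_add, ← pow_add]
    exact S.frob_six x
  set u : K := β ^ (2 * m * (m + 1)) with hu
  have hu0 : u ≠ 0 := pow_ne_zero _ hβ0
  have huu : β * (u * u) = β ^ q ^ 2 := by
    rw [hu, ← pow_add, ← pow_succ', hm]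
    congr 1
    ring
  have hu3 : u ^ q ^ 3 = u := by rw [hu, ← pow_mul, mul_comm, pow_mul, hβfix]
  let e : K ≃ₗ[F] K := φ.toLinearEquiv.trans (LinearEquiv.ofBijective (LinearMap.mulLeft F u)
    ⟨mul_right_injective₀ hu0, fun y => ⟨u⁻¹ * y, by simp [LinearMap.mulLeft_apply, hu0]⟩⟩)
  have he : ∀ x, e x = u * φ x := fun x => rfl
  set g : G3 := linToGL (S.D.Φ.symm.trans (e.trans S.D.Φ)) with hg
  have hgx : ∀ x, (g : M3) *ᵥ S.D.Φ x = S.D.Φ (u * φ x) := fun x => by
    rw [hg, linToGL_mulVec, LinearEquiv.trans_apply, LinearEquiv.trans_apply, S.D.Φ.symm_apply_apply, he]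
  have hdet : (g : M3).det = 1 := by
    have h : Matrix.toLin' (g : M3) = S.D.Φ.conj ((Algebra.lmul F K u).comp φ.toLinearMap) := by
      refine LinearMap.ext fun v => ?_
      obtain ⟨x, rfl⟩ := S.D.Φ.surjective v
      rw [LinearEquiv.conj_apply_apply, S.D.Φ.symm_apply_apply, Matrix.toLin'_apply, hgx]
      rfl
    rw [← LinearMap.det_toLin', h, LinearEquiv.conj_apply, LinearMap.comp_assoc, LinearMap.det_conj,
      LinearMap.det_comp, det_algEquiv φ hφ3, mul_one, ← Algebra.norm_apply, hu, map_pow]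
    have hN : Algebra.norm F β ^ q = Algebra.norm F β := by
      refine (algebraMap F K).injective ?_
      rw [map_pow, FiniteField.algebraMap_norm_eq_pow_sum, S.dim, S.natCard_F]
      simp only [Finset.sum_range_succ, Finset.sum_range_zero, zero_add, pow_zero, pow_one, pow_add, mul_pow,
        ← pow_mul]
      have h5 : β ^ q ^ 5 = β ^ q ^ 2 := by rw [show (5 : ℕ) = 3 + 2 from rfl, pow_add, pow_mul, hβfix]
      have h4 : β ^ q ^ 4 = β ^ q := by rw [show (4 : ℕ) = 3 + 1 from rfl, pow_add, pow_mul, hβfix, pow_one]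
      rw [show q ^ 2 * q = q ^ 3 by ring, show q ^ (2 * 2) * q = q ^ 5 by ring, hβfix, h5,
        show (2 * 2 : ℕ) = 4 from rfl, h4]
      ring
    have hN0 : Algebra.norm F β ≠ 0 := Algebra.norm_ne_zero_iff.2 hβ0
    have h1 : Algebra.norm F β ^ (2 * m) = 1 := mul_left_cancel₀ hN0 (by
      rw [← pow_succ', ← hm, hN, mul_one])
    rw [pow_mul, h1, one_pow]
  have hnorm : ∀ X : K, (g : M3) * S.D.ρ X * ((g⁻¹ : G3) : M3) = S.D.ρ (φ X) := fun X => by
    have h : (g : M3) * S.D.ρ X = S.D.ρ (φ X) * (g : M3) := S.D.mulVec_ext fun x => by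
      rw [← mulVec_mulVec, ← mulVec_mulVec, S.D.act, hgx, hgx, S.D.act, map_mul φ, mul_left_comm]
    rw [h, mul_assoc, Units.mul_inv, mul_one]
  refine ⟨g, Subgroup.mem_inf.2 ⟨(mem_GU_iff S.frob).2 fun v w => ?_, C6.mem_sl.2 hdet⟩, fun A => ?_, fun k => ?_⟩
  · obtain ⟨x, rfl⟩ := S.D.Φ.surjective v
    obtain ⟨y, rfl⟩ := S.D.Φ.surjective w
    rw [hgx, hgx, hform, hform, ← Algebra.trace_eq_of_algEquiv φ (β * (x ^ q ^ 3 * y))]
    congr 1
    rw [mul_pow, hu3, map_mul, map_mul, map_pow, hφ β, ← huu]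
    ring
  · constructor
    · rintro ⟨X, rfl⟩
      exact ⟨φ X, (hnorm X).symm⟩
    · rintro ⟨Y, hY⟩
      refine ⟨φ.symm Y, ?_⟩
      have e1 := hnorm (φ.symm Y)
      rw [AlgEquiv.apply_symm_apply, show S.D.ρ Y = _ from hY] at e1
      have e2 := congrArg (fun Z : M3 => ((g⁻¹ : G3) : M3) * Z * (g : M3)) e1
      simp only [mul_assoc, Units.inv_mul, mul_one] at e2
      simp only [← mul_assoc, Units.inv_mul, one_mul] at e2
      exact e2
  · refine Units.ext ?_
    rw [Units.val_mul, Units.val_mul, S.D.toGL_val, S.D.toGL_val, hnorm, hφ, Units.val_pow_eq_pow_val]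

end CfsgLib.Classical.GeoThree.SU.Singer
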