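import Cfsg.Agent.Lib.Classical.GeoThree.SU.Singer.Frob
import Cfsg.Agent.Lib.Classical.AschPrime.UnitaryGroup

/-!
# Overgroups of the unitary Singer normaliser for `q = 7, 9, 11`

The subgroup of large prime order is a Sylow subgroup, and the Sylow congruence leaves only the normaliser
and the whole group.
-/

set_option autoImplicit false
set_option linter.unusedSectionVars false
set_option linter.style.haveILetI false
set_option backward.isDefEq.respectTransparency false

open Matrix Module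

namespace CfsgLib.Classical.GeoThree.SU.Singer

open CfsgLib.Classical
open Cfsg.Geo (specialLinear subalgebraNormalizer)

variable {F K : Type*} [Field F] [Fintype F] [Field K] [Finite K] [Algebra F K] {q : ℕ} {σ : F →+* F}

local notation "M3" => Matrix (Fin 3) (Fin 3) F
local notation "G3" => GL (Fin 3) F

theorem card_su_three (hF : Fintype.card F = q ^ 2) :
    (q + 1) * Nat.card (Cfsg.GU 3 F q ⊓ specialLinear (Fin 3) F : Subgroup G3) =
      q ^ 3 * ((q + 1) * (q ^ 2 - 1) * (q ^ 3 + 1)) := by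
  have h := (card_SU_mul (n := 3) hF (by norm_num)).trans (card_GU hF 3)
  rw [Nat.card_congr AschPrime.suGEquiv.toEquiv] at h
  rw [h]
  simp [Finset.prod_range_succ, Nat.even_iff]

variable (S : Torus F K q σ)
include S

/-- An element conjugating a non-scalar unit of the field into the field normalises it. -/
theorem Torus.mem_normalizer {k : K} (hk : ∀ μ : F, k ≠ μ • 1) {h : G3} {X₀ Y₀ : K}
    (h₀ : (h : M3) * S.D.ρ k * ((h⁻¹ : G3) : M3) = S.D.ρ X₀)
    (h₁ : ((h⁻¹ : G3) : M3) * S.D.ρ k * (h : M3) = S.D.ρ Y₀) :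
    h ∈ subalgebraNormalizer S.D.ρ.range := by
  have main : ∀ (a : G3) (Z : K), (a : M3) * S.D.ρ k * ((a⁻¹ : G3) : M3) = S.D.ρ Z → ∀ X : K,
      ∃ Y : K, (a : M3) * S.D.ρ X * ((a⁻¹ : G3) : M3) = S.D.ρ Y := by
    intro a Z hZ
    let A' : Subalgebra F K :=
      { carrier := {X | ∃ Y : K, (a : M3) * S.D.ρ X * ((a⁻¹ : G3) : M3) = S.D.ρ Y}
        mul_mem' := by
          rintro X X' ⟨Y, hY⟩ ⟨Y', hY'⟩
          refine ⟨Y * Y', ?_⟩
          rw [map_mul, map_mul, ← hY, ← hY']
          simp only [mul_assoc]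
          rw [← mul_assoc ((a⁻¹ : G3) : M3) (a : M3), Units.inv_mul, one_mul]
        add_mem' := by
          rintro X X' ⟨Y, hY⟩ ⟨Y', hY'⟩
          exact ⟨Y + Y', by rw [map_add, map_add, ← hY, ← hY', mul_add, add_mul]⟩
        algebraMap_mem' := fun c => ⟨algebraMap F K c, by
          rw [AlgHom.commutes, ← Algebra.commutes c (a : M3), mul_assoc, Units.mul_inv, mul_one]⟩ }
    haveI := Subalgebra.isSimpleOrder_of_finrank_prime F K (S.dim ▸ Nat.prime_three)
    have hA : A' = ⊤ := by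
      refine (eq_bot_or_eq_top A').resolve_left fun e => ?_
      have hkA : k ∈ A' := ⟨Z, hZ⟩
      rw [e, Algebra.mem_bot] at hkA
      obtain ⟨c, hc⟩ := hkA
      exact hk c (by rw [← hc, Algebra.algebraMap_eq_smul_one])
    intro X
    exact (hA ▸ Algebra.mem_top : X ∈ A')
  intro A
  constructor
  · rintro ⟨X, rfl⟩
    obtain ⟨Y, hY⟩ := main h X₀ h₀ X
    exact ⟨Y, hY.symm⟩
  · rintro ⟨Y, hY⟩
    obtain ⟨X, hX⟩ := main h⁻¹ Y₀ (by rw [inv_inv]; exact h₁) Y
    refine ⟨X, ?_⟩
    show S.D.ρ X = A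
    rw [← hX, show S.D.ρ Y = _ from hY, inv_inv]
    simp only [mul_assoc, Units.inv_mul, mul_one]
    simp only [← mul_assoc, Units.inv_mul, one_mul]

variable {M : Subgroup (GL (Fin 3) F)}
  (hH : subalgebraNormalizer S.D.ρ.range ⊓ (Cfsg.GU 3 F q ⊓ specialLinear (Fin 3) F) ≤ M)
  (hMs : M ≤ Cfsg.GU 3 F q ⊓ specialLinear (Fin 3) F)
include hH hMs

/-- The Sylow argument. -/
theorem Torus.sylow_dichotomy {r o : ℕ} (hodd : Odd q) (hr : r.Prime) (hr5 : 5 ≤ r) (hrt : r ∣ tn q)
    (hrq : ¬ r ∣ q ^ 2 - 1)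
    (hcard : Nat.card (Cfsg.GU 3 F q ⊓ specialLinear (Fin 3) F : Subgroup G3) = 3 * tn q * o)
    (hr2 : ¬ r ^ 2 ∣ 3 * tn q * o) (hdiv : ∀ n, n ∣ o → n % r = 1 → n = 1 ∨ n = o) :
    M ≤ subalgebraNormalizer S.D.ρ.range ∨ Cfsg.GU 3 F q ⊓ specialLinear (Fin 3) F ≤ M := by
  classical
  haveI := Fact.mk hr
  haveI := Fintype.ofFinite K
  have hT : ∀ k ∈ S.T, S.D.toGL k ∈ M := fun k hk => hH ⟨fun A => ?_, S.gu_of_T hk⟩
  swap
  · have e : ∀ X : K, (S.D.toGL k : M3) * S.D.ρ X * (((S.D.toGL k)⁻¹ : G3) : M3) = S.D.ρ X := fun X => by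
      rw [S.D.toGL_val, ← map_mul, mul_comm, map_mul, mul_assoc, ← S.D.toGL_val, Units.mul_inv, mul_one]
    constructor
    · rintro ⟨X, rfl⟩; exact ⟨X, (e X).symm⟩
    · rintro ⟨Y, hY⟩
      refine ⟨Y, ?_⟩
      have e2 := congrArg (fun Z : M3 => (((S.D.toGL k)⁻¹ : G3) : M3) * Z * (S.D.toGL k : M3))
        ((show S.D.ρ Y = _ from hY).symm.trans (e Y).symm)
      simp only [mul_assoc, Units.inv_mul, mul_one] at e2
      simp only [← mul_assoc, Units.inv_mul, one_mul] at e2
      exact e2.symm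
  obtain ⟨⟨k, hk⟩, hord⟩ := exists_prime_orderOf_dvd_card' r (S.card_T ▸ hrt)
  rw [Subgroup.orderOf_mk] at hord
  have hns : ∀ μ : F, (k : K) ≠ μ • 1 := fun μ hμ => hrq (by
    rw [← hord]
    refine orderOf_dvd_of_pow_eq_one (Units.ext ?_)
    have hμ0 : μ ≠ 0 := fun e => k.ne_zero (by rw [hμ, e, zero_smul])
    rw [Units.val_pow_eq_pow_val, hμ, smul_pow, one_pow, ← S.card, FiniteField.pow_card_sub_one_eq_one μ hμ0,
      one_smul, Units.val_one])
  set g : M := ⟨S.D.toGL k, hT k hk⟩ with hg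
  have hordg : orderOf g = r := by
    rw [hg, Subgroup.orderOf_mk, ← hord]
    exact orderOf_injective (Units.map (S.D.ρ : K →* M3)) (fun a b h => Units.map_injective S.D.ρ_injective h) k
  set R : Subgroup M := Subgroup.zpowers g with hR
  have hRc : Nat.card R = r := by rw [hR, Nat.card_zpowers, hordg]
  have hMdvd : Nat.card M ∣ 3 * tn q * o := hcard ▸ Subgroup.card_dvd_of_le hMs
  have hfac : (Nat.card M).factorization r = 1 := by
    have h1 : r ^ 1 ∣ Nat.card M := by rw [pow_one, ← hRc]; exact Subgroup.card_subgroup_dvd_card R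
    have h2 : ¬ r ^ 2 ∣ Nat.card M := fun h => hr2 (h.trans hMdvd)
    rw [hr.pow_dvd_iff_le_factorization Nat.card_pos.ne'] at h1 h2
    omega
  let P : Sylow r M := Sylow.ofCard R (by rw [hfac, pow_one, hRc])
  set N₀ : Subgroup M := Subgroup.normalizer (R : Set M) with hN₀
  have hmod : N₀.index % r = 1 := by
    have h := card_sylow_modEq_one r M
    rw [P.card_eq_index_normalizer] at h
    exact Eq.trans h (Nat.mod_eq_of_lt hr.one_lt)
  -- the order of the normaliser
  have hdvd : 3 * tn q ∣ Nat.card N₀ := by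
    set f := R.normalizerMonoidHom
    have hker : tn q ∣ Nat.card f.ker := by
      rw [← S.card_T]
      let ι : S.T →* M :=
        { toFun := fun x => ⟨S.D.toGL x.1, hT x.1 x.2⟩
          map_one' := Subtype.ext (map_one (Units.map (S.D.ρ : K →* M3)))
          map_mul' := fun a b => Subtype.ext (map_mul (Units.map (S.D.ρ : K →* M3)) a.1 b.1) }
      have hcom : ∀ x : S.T, Commute (ι x) g := fun x => Subtype.ext (by
        show Units.map (S.D.ρ : K →* M3) x.1 * Units.map (S.D.ρ : K →* M3) k = Units.map _ k * Units.map _ x.1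
        rw [← map_mul, ← map_mul, mul_comm])
      have hcR : ∀ x : S.T, ∀ y ∈ R, ι x * y * (ι x)⁻¹ = y := fun x y hy => by
        obtain ⟨i, rfl⟩ := Subgroup.mem_zpowers_iff.1 hy
        rw [((hcom x).zpow_right i).eq, mul_inv_cancel_right]
      have hin : ∀ x, ι x ∈ N₀ := fun x =>
        Subgroup.mem_normalizer_fintype fun y hy => by rw [hcR x y hy]; exact hy
      let ι' : S.T →* f.ker := (ι.codRestrict N₀ hin).codRestrict f.ker fun x => MonoidHom.mem_ker.2
        (MulEquiv.ext fun y => Subtype.ext (hcR x y y.2))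
      refine Subgroup.card_dvd_of_injective ι' fun a b e => Subtype.ext (Units.map_injective S.D.ρ_injective ?_)
      exact congrArg (fun z : f.ker => (((z : N₀) : M) : G3)) e
    have hrange : 3 ∣ Nat.card f.range := by
      obtain ⟨h, hhs, hhn, hconj⟩ := S.exists_frob hodd
      set hM : M := ⟨h, hH ⟨hhn, hhs⟩⟩
      have hstep : ∀ i : ℤ, hM * g ^ i * hM⁻¹ = g ^ ((q ^ 2 : ℕ) * i : ℤ) := fun i => by
        rw [← conj_zpow, _root_.zpow_mul, zpow_natCast]
        congr 1
        refine Subtype.ext ?_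
        rw [Subgroup.coe_mul, Subgroup.coe_mul, Subgroup.coe_inv, SubgroupClass.coe_pow]
        show h * S.D.toGL k * h⁻¹ = _
        rw [hconj]
        exact map_pow (Units.map (S.D.ρ : K →* M3)) k _
      have hin : hM ∈ N₀ := Subgroup.mem_normalizer_fintype fun y hy => by
        obtain ⟨i, rfl⟩ := Subgroup.mem_zpowers_iff.1 hy
        rw [hstep]
        exact Subgroup.zpow_mem_zpowers g _
      set a := f ⟨hM, hin⟩
      have ha : ∀ y : R, ((a y : R) : M) = hM * y * hM⁻¹ := fun y => rfl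
      have hg6 : g ^ ((q ^ 6 : ℕ) : ℤ) = g := by
        rw [zpow_natCast]
        refine Subtype.ext ?_
        rw [SubgroupClass.coe_pow]
        refine ((map_pow (Units.map (S.D.ρ : K →* M3)) k _).symm.trans (congrArg _ (Units.ext ?_)))
        rw [Units.val_pow_eq_pow_val]
        exact S.frob_six _
      have ha3 : a ^ 3 = 1 := MulEquiv.ext fun ⟨y, hy⟩ => Subtype.ext (by
        obtain ⟨i, rfl⟩ := Subgroup.mem_zpowers_iff.1 hy
        rw [pow_succ, pow_two, MulAut.mul_apply, MulAut.mul_apply, MulAut.one_apply, ha, ha, ha, hstep, hstep,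
          hstep, show ((q ^ 2 : ℕ) : ℤ) * (((q ^ 2 : ℕ) : ℤ) * (((q ^ 2 : ℕ) : ℤ) * i)) = ((q ^ 6 : ℕ) : ℤ) * i by
            push_cast; ring, _root_.zpow_mul, hg6])
      have ha1 : a ≠ 1 := fun e => hrq (by
        have h1 := congrArg (fun t : MulAut R => ((t ⟨g, Subgroup.mem_zpowers g⟩ : R) : M)) e
        simp only [ha, MulAut.one_apply] at h1
        have h2 := hstep 1
        rw [zpow_one, mul_one, zpow_natCast, h1] at h2
        rw [← hordg]
        refine orderOf_dvd_of_pow_eq_one (mul_left_cancel (a := g) ?_)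
        rw [← pow_succ', Nat.sub_add_cancel (Nat.one_le_pow _ _ hodd.pos), ← h2, mul_one])
      haveI : Fact (Nat.Prime 3) := ⟨Nat.prime_three⟩
      have := orderOf_dvd_natCard (⟨a, MonoidHom.mem_range.2 ⟨_, rfl⟩⟩ : f.range)
      rwa [← Subgroup.orderOf_coe, orderOf_eq_prime (x := a) ha3 ha1] at this
    rw [Subgroup.card_eq_card_quotient_mul_card_subgroup f.ker,
      Nat.card_congr (QuotientGroup.quotientKerEquivRange f).toEquiv]
    exact Nat.mul_dvd_mul hrange hker
  obtain ⟨c, hc⟩ := hdvd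
  have hcM : N₀.index * (3 * tn q * c) = Nat.card M := by rw [← hc, Subgroup.index_mul_card]
  have hno : N₀.index ∣ o := by
    have h : 3 * tn q * N₀.index ∣ 3 * tn q * o :=
      (Dvd.intro c (by rw [← hcM]; ring)).trans hMdvd
    exact Nat.dvd_of_mul_dvd_mul_left (Nat.mul_pos (by norm_num) (Nat.succ_pos _)) h
  rcases hdiv _ hno hmod with h1 | ho
  · left
    intro m hm
    have hnorm : ∀ m : M, ∃ X : K, ((m : G3) : M3) * S.D.ρ (k : K) * (((m : G3)⁻¹ : G3) : M3) = S.D.ρ X := by
      intro m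
      have hmN : m ∈ Subgroup.normalizer (R : Set M) := by
        rw [← hN₀, Subgroup.index_eq_one.1 h1]; exact Subgroup.mem_top m
      obtain ⟨i, hi⟩ := Subgroup.mem_zpowers_iff.1 ((hmN g).1 (Subgroup.mem_zpowers g))
      refine ⟨((k ^ i : Kˣ) : K), ?_⟩
      have e := congrArg (fun z : M => (z : G3)) hi
      simp only [SubgroupClass.coe_zpow, Subgroup.coe_mul, Subgroup.coe_inv] at e
      rw [hg] at e
      change Units.map (S.D.ρ : K →* M3) k ^ i = _ at e
      rw [← map_zpow] at e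
      exact (congrArg (fun z : G3 => (z : M3)) e).symm
    obtain ⟨X₀, h₀⟩ := hnorm ⟨m, hm⟩
    obtain ⟨Y₀, h₁⟩ := hnorm ⟨m, hm⟩⁻¹
    exact S.mem_normalizer hns h₀ (by simpa using h₁)
  · right
    refine (Subgroup.eq_of_le_of_card_ge hMs ?_).ge
    rw [hcard, ← hcM, ho, mul_comm o]
    refine Nat.mul_le_mul_right o (Nat.le_mul_of_pos_right _ (Nat.pos_of_ne_zero fun e => ?_))
    rw [e, mul_zero] at hc
    exact Nat.card_pos.ne' hc

/-- The three small cases. -/
theorem Torus.small_dichotomy (hq : q = 7 ∨ q = 9 ∨ q = 11) :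
    M ≤ subalgebraNormalizer S.D.ρ.range ∨ Cfsg.GU 3 F q ⊓ specialLinear (Fin 3) F ≤ M := by
  have key : ∀ {r o : ℕ}, 0 < o → o < 640000 →
      (∀ i < 800, i ∣ o → (i % r = 1 → i = 1) ∧ (o / i % r = 1 → i = 1)) →
      ∀ n, n ∣ o → n % r = 1 → n = 1 ∨ n = o := by
    intro r o ho0 ho h n hn hn1
    rcases Nat.lt_or_ge n 800 with h8 | h8
    · exact .inl ((h n h8 hn).1 hn1)
    · obtain ⟨i, rfl⟩ := hn
      have hn0 : 0 < n := by omega
      have hi : i < 800 := by
        by_contra hi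
        push Not at hi
        have := Nat.mul_le_mul h8 hi
        omega
      rcases Nat.eq_zero_or_pos i with rfl | hi0
      · simp at ho0
      · right
        rw [(h i hi (Dvd.intro_left n rfl)).2 (by rw [Nat.mul_div_cancel _ hi0]; exact hn1), mul_one]
  have hsu := card_su_three S.card
  rcases hq with rfl | rfl | rfl <;> norm_num [tn] at hsu
  · refine S.sylow_dichotomy hH hMs (r := 43) (o := 43904) (by decide) (by norm_num) (by norm_num)
      (by norm_num [tn]) (by norm_num) ?_ (by norm_num [tn]) (key (by norm_num) (by norm_num) (by decide +kernel))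
    norm_num [tn]; omega
  · refine S.sylow_dichotomy hH hMs (r := 73) (o := 194400) (by decide) (by norm_num) (by norm_num)
      (by norm_num [tn]) (by norm_num) ?_ (by norm_num [tn]) (key (by norm_num) (by norm_num) (by decide +kernel))
    norm_num [tn]; omega
  · refine S.sylow_dichotomy hH hMs (r := 37) (o := 638880) (by decide) (by norm_num) (by norm_num)
      (by norm_num [tn]) (by norm_num) ?_ (by norm_num [tn]) (key (by norm_num) (by norm_num) (by decide +kernel))
    norm_num [tn]; omega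

end CfsgLib.Classical.GeoThree.SU.Singer
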