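import Cfsg.Agent.Lib.Classical.GeoThree.SU.Singer.NoTransv
import Cfsg.Agent.Lib.Classical.GeoThree.SU.Singer.Small

/-!
# The normaliser of a unitary Singer cycle is maximal in `SU₃(q)`, `q ≠ 3, 5`
-/

set_option autoImplicit false
set_option linter.unusedSectionVars false
set_option linter.style.haveILetI false
set_option backward.isDefEq.respectTransparency false

open Matrix Module

namespace CfsgLib.Classical.GeoThree.SU.Singer

open CfsgLib.Classical
open Cfsg.Geo (specialLinear subalgebraNormalizer IsFieldSubalgebra IsAdjointClosedFor IsMaximalIn)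

variable {F : Type*} [Field F] [Fintype F] {q : ℕ} {σ : F →+* F}

local notation "M3" => Matrix (Fin 3) (Fin 3) F
local notation "G3" => GL (Fin 3) F
local notation "B" => stdHerm σ 3

theorem uTr_mem_su (hσ : ∀ x, σ x = x ^ q) (hc : IsConjugation σ) {v : Fin 3 → F} (hv : stdHerm σ 3 v v = 0)
    {c : F} (hcs : c + σ c = 0) : uTr σ v hv c ∈ Cfsg.GU 3 F q ⊓ specialLinear (Fin 3) F := by
  refine Subgroup.mem_inf.2 ⟨(mem_GU_iff hσ).2 fun x y => ?_, trGL_mem_sl _ _ _⟩
  have hs := (stdHerm_isHermitian hc 3).symm v x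
  rw [uTr_mulVec, uTr_mulVec, map_add, map_add, LinearMap.add_apply, LinearMap.add_apply, map_smulₛₗ, map_smul,
    map_smul, LinearMap.smul_apply, LinearMap.smul_apply, map_mul, hv, smul_zero, smul_eq_mul, smul_eq_mul,
    smul_eq_mul, hs, mul_zero, add_zero]
  linear_combination (B v y * B x v) * hcs

variable {K : Type*} [Field K] [Finite K] [Algebra F K] (S : Torus F K q σ)
include S

/-- The dichotomy. -/
theorem Torus.dichotomy (hq : 4 ≤ q) (h5 : q ≠ 5) {M : Subgroup G3}
    (hH : subalgebraNormalizer S.D.ρ.range ⊓ (Cfsg.GU 3 F q ⊓ specialLinear (Fin 3) F) ≤ M)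
    (hMs : M ≤ Cfsg.GU 3 F q ⊓ specialLinear (Fin 3) F) :
    M ≤ subalgebraNormalizer S.D.ρ.range ∨ Cfsg.GU 3 F q ⊓ specialLinear (Fin 3) F ≤ M := by
  classical
  by_cases hs : q = 7 ∨ q = 9 ∨ q = 11
  · exact S.small_dichotomy hH hMs hs
  push Not at hs
  have hT : ∀ k ∈ S.T, S.D.toGL k ∈ M := fun k hk => by
    refine hH (Subgroup.mem_inf.2 ⟨fun A => ?_, S.gu_of_T hk⟩)
    have e : ∀ X : K, (S.D.toGL k : M3) * S.D.ρ X * (((S.D.toGL k)⁻¹ : G3) : M3) = S.D.ρ X := fun X => by
      rw [S.D.toGL_val, ← map_mul, mul_comm, map_mul, mul_assoc, ← S.D.toGL_val, Units.mul_inv, mul_one]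
    constructor
    · rintro ⟨X, rfl⟩; exact ⟨X, (e X).symm⟩
    · rintro ⟨Y, hY⟩
      refine ⟨Y, ?_⟩
      have e2 := congrArg (fun Z : M3 => (((S.D.toGL k)⁻¹ : G3) : M3) * Z * (S.D.toGL k : M3))
        ((show S.D.ρ Y = _ from hY).symm.trans (e Y).symm)
      simp only [mul_assoc, Units.inv_mul, mul_one] at e2
      simp only [← mul_assoc, Units.inv_mul, one_mul] at e2
      exact e2.symm
  by_cases hno : C6.NoTransv M
  · left
    obtain ⟨p, n, hp, hpF, -, hqn⟩ := S.exists_char
    rcases hp.eq_two_or_odd' with rfl | hpo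
    · exact S.le_normalizer_two hT hMs hq h5 (by exact_mod_cast CharP.cast_eq_zero F 2) hno
    · have hodd : Odd q := hqn ▸ hpo.pow
      refine S.le_normalizer_odd hT hMs ?_ hodd hno
      obtain ⟨m, rfl⟩ := hodd
      omega
  · right
    simp only [C6.NoTransv, not_forall] at hno
    obtain ⟨v, f, hperp, hmem, hne⟩ := hno
    push Not at hne
    exact S.su_le_of_transv hT hMs hq h5 hs.2.1 hne.1 hne.2 hmem

omit K S in
/-- The normaliser of a field closed under adjoints is maximal in `SU₃`. -/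
theorem field_maximal_su (hF : Fintype.card F = q ^ 2) (hq : 4 ≤ q) (h5 : q ≠ 5) (Ks : Subalgebra F M3)
    (hK : IsFieldSubalgebra 3 Ks) (hadj : IsAdjointClosedFor (Cfsg.hermForm 3 F q) Ks) :
    IsMaximalIn (Cfsg.GU 3 F q ⊓ specialLinear (Fin 3) F)
      (subalgebraNormalizer Ks ⊓ (Cfsg.GU 3 F q ⊓ specialLinear (Fin 3) F)) := by
  classical
  obtain ⟨σ, hσ, hc⟩ := exists_frob hF
  have hfield : IsField Ks := ⟨⟨0, 1, zero_ne_one⟩, fun a b => Subtype.ext (hK.comm _ a.2 _ b.2),
    fun {a} ha => by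
      obtain ⟨y, hy, h⟩ := hK.inv a.1 a.2 fun h => ha (Subtype.ext h)
      exact ⟨⟨y, hy⟩, Subtype.ext h⟩⟩
  letI : Field Ks := hfield.toField
  haveI : Finite Ks := Finite.of_injective _ Subtype.val_injective
  have hdim : finrank F Ks = 3 := hK.finrank_eq
  haveI : FiniteDimensional F Ks := Module.finite_of_finrank_pos (by rw [hdim]; norm_num)
  let v : Fin 3 → F := Pi.single 0 1
  let L : Ks →ₗ[F] (Fin 3 → F) :=
    { toFun := fun k => k.1 *ᵥ v
      map_add' := fun a b => add_mulVec a.1 b.1 v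
      map_smul' := fun c a => smul_mulVec c a.1 v }
  have hL : Function.Injective L := by
    rw [← LinearMap.ker_eq_bot, Submodule.eq_bot_iff]
    intro k hk
    by_contra h0
    obtain ⟨y, hy, hy1⟩ := hK.inv k.1 k.2 fun h => h0 (Subtype.ext h)
    have hyk : y * k.1 = 1 := mul_eq_one_comm.mp hy1
    have : v = 0 := by
      rw [← one_mulVec v, ← hyk, ← mulVec_mulVec, show k.1 *ᵥ v = 0 from hk, mulVec_zero]
    exact (one_ne_zero : (1 : F) ≠ 0) (by simpa [v] using congrFun this 0)
  let Φ : Ks ≃ₗ[F] (Fin 3 → F) := LinearEquiv.ofBijective L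
    ⟨hL, (LinearMap.injective_iff_surjective_of_finrank_eq_finrank (by rw [hdim, finrank_fin_fun])).1 hL⟩
  let D : GeoThree.Singer.Frame F Ks (⊤ : Subgroup G3) :=
    { ρ := Ks.val
      Φ := Φ
      act := fun k x => mulVec_mulVec v k.1 x.1
      mem := fun k _ => Subgroup.mem_top _ }
  let S : Torus F Ks q σ :=
    { D := D
      card := hF
      frob := hσ
      conj := hc
      dim := hdim
      adj := fun k => by
        obtain ⟨k', hk', h⟩ := hadj k.1 k.2
        refine ⟨⟨k', hk'⟩, fun u v => ?_⟩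
        have e := h u v
        rw [hermForm_eq_stdHerm hσ, hermForm_eq_stdHerm hσ] at e
        have e' := congrArg σ e
        rw [(stdHerm_isHermitian hc 3).symm, (stdHerm_isHermitian hc 3).symm] at e'
        exact e' }
  have hrange : S.D.ρ.range = Ks := Subalgebra.range_val Ks
  refine ⟨lt_of_le_of_ne inf_le_right fun e => ?_, fun M hM hMs => ?_⟩
  · obtain ⟨ζ, hζ⟩ := hc.exists_norm_eq (a := -1) (by rw [map_neg, map_one])
    obtain ⟨c, hc0, hcs⟩ := hc.exists_trace_zero
    have hw : stdHerm σ 3 ![1, ζ, 0] ![1, ζ, 0] = 0 := by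
      rw [stdHerm_apply, Fin.sum_univ_three]
      simp
      linear_combination hζ
    have hw0 : (![1, ζ, 0] : Fin 3 → F) ≠ 0 := fun h => one_ne_zero (α := F) (by simpa using congrFun h 0)
    refine S.uTr_not_normalizer hq h5 hw0 hw hc0 ?_
    rw [hrange]
    exact (e.symm.le (uTr_mem_su hσ hc hw hcs)).1
  · rcases S.dichotomy hq h5 (by rw [hrange]; exact hM) hMs with h | h
    · rw [hrange] at h
      exact .inl (le_antisymm (le_inf h hMs) hM)
    · exact .inr (le_antisymm hMs h)

end CfsgLib.Classical.GeoThree.SU.Singer
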