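import Cfsg.Agent.Lib.Classical.GeoThree.SU.Singer.Two

/-!
# Overgroups of the unitary Singer torus without transvections

For odd `q ≥ 13` the centraliser of an involution is too small compared with the torus.
-/

set_option autoImplicit false
set_option linter.unusedSectionVars false
set_option linter.style.haveILetI false
set_option backward.isDefEq.respectTransparency false

open Matrix Module

namespace CfsgLib.Classical.GeoThree.SU.Singer

open CfsgLib.Classical
open Cfsg.Geo (specialLinear subalgebraNormalizer scalars mem_scalars_iff)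
open CfsgLib.Classical.GeoThree.Singer (Frame exists_homology)

variable {F K : Type*} [Field F] [Fintype F] [Field K] [Finite K] [Algebra F K] {q : ℕ} {σ : F →+* F}

local notation "M2" => Matrix (Fin 2) (Fin 2) F
local notation "M3" => Matrix (Fin 3) (Fin 3) F
local notation "G3" => GL (Fin 3) F
local notation "B" => stdHerm σ 3

/-- Without transvections `(g - 1) ^ 2 = 0` only for `g = 1`. -/
theorem eq_one_of_sq_zero {M : Subgroup (GL (Fin 3) F)} (hno : C6.NoTransv M) {g : G3} (hg : g ∈ M)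
    (hN : ((g : M3) - 1) * ((g : M3) - 1) = 0) : g = 1 := by
  by_contra hg1
  set N : M3 := (g : M3) - 1 with hNd
  have hrank : N.rank ≤ 1 := by
    have hle : LinearMap.range N.mulVecLin ≤ LinearMap.ker N.mulVecLin := by
      rintro _ ⟨x, rfl⟩
      rw [LinearMap.mem_ker, mulVecLin_apply, mulVecLin_apply, mulVec_mulVec, hN, zero_mulVec]
    have h1 := Submodule.finrank_mono hle
    have h3 := LinearMap.finrank_range_add_finrank_ker N.mulVecLin
    rw [finrank_fin_fun] at h3
    change finrank F (LinearMap.range N.mulVecLin) ≤ 1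
    omega
  obtain ⟨u, φ, hu⟩ := C6.exists_vecMulVec hrank
  have hu0 : u ≠ 0 := fun h => hg1 (Units.ext (sub_eq_zero.1 (show N = 0 by rw [hu, h, zero_vecMulVec])))
  have hφ0 : φ ≠ 0 := fun h => hg1 (Units.ext (sub_eq_zero.1 (show N = 0 by rw [hu, h, vecMulVec_zero])))
  have hperp : φ ⬝ᵥ u = 0 := by
    rw [hu, vecMulVec_mul_vecMulVec, vecMulVec_smul, smul_eq_zero] at hN
    refine hN.resolve_right fun h => ?_
    rcases vecMulVec_eq_zero.1 h with e | e
    exacts [hu0 e, hφ0 e]
  have hmem : trGL u φ hperp ∈ M := by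
    convert hg using 1
    refine Units.ext (Matrix.ext_iff_mulVec.2 fun x => ?_)
    rw [trGL_mulVec, ← add_sub_cancel (1 : M3) (g : M3), ← hNd, hu, add_mulVec, one_mulVec, vecMulVec_mulVec,
      op_smul_eq_smul]
  rcases hno u φ hperp hmem with e | e
  exacts [hu0 e, hφ0 e]

/-- The trace of the inverse of a unitary matrix. -/
theorem gu_trace (hσ : ∀ x, σ x = x ^ q) (hc : IsConjugation σ) {m : G3} (hm : m ∈ Cfsg.GU 3 F q) :
    σ (m : M3).trace = ((m⁻¹ : G3) : M3).trace := by
  have hi : ∀ i, σ ((m : M3) i i) = ((m⁻¹ : G3) : M3) i i := fun i => by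
    have e := (mem_GU_iff hσ).1 hm (Pi.single i 1) (((m⁻¹ : G3) : M3) *ᵥ Pi.single i 1)
    rw [mulVec_mulVec, ← Units.val_mul, mul_inv_cancel, Units.val_one, one_mulVec,
      ← (stdHerm_isHermitian hc 3).symm (Pi.single i 1) ((m : M3) *ᵥ Pi.single i 1), stdHerm_single,
      stdHerm_single, mulVec_single_one, mulVec_single_one] at e
    simpa using e
  simp only [Matrix.trace, Matrix.diag, map_sum, hi]

/-- A non-zero vector in the kernels of two functionals. -/
theorem exists_common (f f' : Fin 3 → F) : ∃ x : Fin 3 → F, x ≠ 0 ∧ f ⬝ᵥ x = 0 ∧ f' ⬝ᵥ x = 0 := by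
  let φ : (Fin 3 → F) →ₗ[F] F × F :=
    { toFun := fun x => (f ⬝ᵥ x, f' ⬝ᵥ x)
      map_add' := fun a b => by simp [dotProduct_add]
      map_smul' := fun c a => by simp [dotProduct_smul] }
  have hker : LinearMap.ker φ ≠ ⊥ := fun e => by
    have h1 := LinearMap.finrank_range_add_finrank_ker φ
    rw [e, finrank_bot, finrank_fin_fun] at h1
    have h2 := Submodule.finrank_le (LinearMap.range φ)
    rw [Module.finrank_prod, finrank_self] at h2
    omega
  obtain ⟨x, hx, hx0⟩ := Submodule.exists_mem_ne_zero_of_ne_bot hker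
  exact ⟨x, hx0, (Prod.mk.inj hx).1, (Prod.mk.inj hx).2⟩

/-- Adapted coordinates for a unitary involution. -/
theorem exists_split (hσ : ∀ x, σ x = x ^ q) (hc : IsConjugation σ) (h2 : (2 : F) ≠ 0) {g : G3}
    (hg : g ∈ Cfsg.GU 3 F q) {u φ : Fin 3 → F} (hφu : φ ⬝ᵥ u = 1)
    (hgf : (g : M3) = (2 : F) • vecMulVec u φ - 1) :
    B u u ≠ 0 ∧ ∃ X : G3, (X : M3) *ᵥ Pi.single 0 1 = u ∧
      (((X⁻¹ : G3) : M3) * (g : M3) * (X : M3)) = diagonal ![1, -1, -1] := by
  classical
  have hgx : ∀ x, (g : M3) *ᵥ x = (2 * (φ ⬝ᵥ x)) • u - x := fun x => by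
    rw [hgf, sub_mulVec, one_mulVec, smul_mulVec, vecMulVec_mulVec, op_smul_eq_smul, smul_smul]
  have hgu : (g : M3) *ᵥ u = u := by rw [hgx, hφu, mul_one, two_smul, add_sub_cancel_right]
  have horth : ∀ y, φ ⬝ᵥ y = 0 → B u y = 0 := fun y hy => by
    have e := (mem_GU_iff hσ).1 hg u y
    rw [hgu, hgx, hy, mul_zero, zero_smul, zero_sub, map_neg] at e
    exact (mul_eq_zero.1 (show (2 : F) * B u y = 0 by linear_combination -e)).resolve_left h2
  refine ⟨fun h0 => ?_, ?_⟩
  · have hall : ∀ y, B u y = 0 := fun y => by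
      rw [show y = (φ ⬝ᵥ y) • u + (y - (φ ⬝ᵥ y) • u) by abel, map_add, map_smul, h0, smul_zero, zero_add]
      exact horth _ (by rw [dotProduct_sub, dotProduct_smul, hφu, smul_eq_mul, mul_one, sub_self])
    have hu : u = 0 := funext fun i => by
      have := hall (Pi.single i 1)
      rw [← (stdHerm_isHermitian hc 3).symm, stdHerm_single, map_eq_zero] at this
      exact this
    rw [hu, dotProduct_zero] at hφu
    exact zero_ne_one hφu
  let L : (Fin 3 → F) →ₗ[F] F :=
    { toFun := fun x => φ ⬝ᵥ x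
      map_add' := fun a b => dotProduct_add _ _ _
      map_smul' := fun c a => by simp [dotProduct_smul] }
  have hP : finrank F (LinearMap.ker L) = 2 := by
    have h1 := LinearMap.finrank_range_add_finrank_ker L
    have hr : LinearMap.range L = ⊤ := LinearMap.range_eq_top.2 fun c => ⟨c • u, by
      show φ ⬝ᵥ (c • u) = c
      rw [dotProduct_smul, hφu, smul_eq_mul, mul_one]⟩
    rw [hr, finrank_top, finrank_self, finrank_fin_fun] at h1
    omega
  let b := Module.finBasisOfFinrankEq F (LinearMap.ker L) hP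
  let c : Fin 3 → Fin 3 → F := ![u, (b 0 : Fin 3 → F), (b 1 : Fin 3 → F)]
  let X0 : M3 := Matrix.of fun i j => c j i
  have hcol : ∀ j, X0 *ᵥ Pi.single j 1 = c j := fun j => by
    rw [mulVec_single_one]; rfl
  have hφb : ∀ i, φ ⬝ᵥ (b i : Fin 3 → F) = 0 := fun i => (b i).2
  have hinj : Function.Injective (fun x => X0 *ᵥ x) := by
    intro x y hxy
    refine sub_eq_zero.1 ?_
    have h0 : X0 *ᵥ (x - y) = 0 := by rw [mulVec_sub]; exact sub_eq_zero.2 hxy
    generalize x - y = z at h0
    have hz : z 0 • u + z 1 • (b 0 : Fin 3 → F) + z 2 • (b 1 : Fin 3 → F) = 0 := by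
      rw [← h0]
      funext i
      simp [X0, c, Matrix.mulVec, dotProduct, Fin.sum_univ_three, mul_comm]
    have h00 : z 0 = 0 := by
      have := congrArg (φ ⬝ᵥ ·) hz
      simpa [dotProduct_add, dotProduct_smul, hφu, hφb] using this
    rw [h00, zero_smul, zero_add] at hz
    have hli := Fintype.linearIndependent_iff.1 b.linearIndependent ![z 1, z 2] (Subtype.ext (by
      simpa [Fin.sum_univ_two] using hz))
    funext i
    fin_cases i
    · exact h00
    · simpa using hli 0
    · simpa using hli 1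
  obtain ⟨X, hX⟩ := Matrix.mulVec_injective_iff_isUnit.1 hinj
  refine ⟨X, by rw [hX]; exact hcol 0, ?_⟩
  have hgX : (g : M3) * (X : M3) = (X : M3) * diagonal ![1, -1, -1] := by
    refine Matrix.ext_iff_mulVec.2 fun x => ?_
    rw [hX, show x = ∑ j, x j • Pi.single j 1 from (pi_eq_sum_univ' x), mulVec_sum, mulVec_sum]
    refine Finset.sum_congr rfl fun j _ => ?_
    rw [mulVec_smul, mulVec_smul, ← mulVec_mulVec, ← mulVec_mulVec, hcol, diagonal_mulVec_single,
      show Pi.single j (![(1 : F), -1, -1] j * 1) = (![(1 : F), -1, -1] j) • Pi.single j (1 : F) by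
        rw [← Pi.single_smul, smul_eq_mul], mulVec_smul, hcol]
    congr 1
    fin_cases j
    · simp [c, hgu]
    · simp [c, hgx, hφb]
    · simp [c, hgx, hφb]
  rw [mul_assoc, hgX, ← mul_assoc, Units.inv_mul, one_mul]

/-- The set of elements scalar on a plane. -/
def planeScalar (x : Matrix (Fin 3) (Fin 3) F) : Prop :=
  ∃ (a : F) (u φ : Fin 3 → F), x = a • 1 + vecMulVec u φ

theorem counting {tn ix k i z R : ℕ} (hup : tn * R ≤ z * (ix * (k * i))) (hlo : z + ix * (k - z) ≤ R)
    (hzk : z ∣ k) (hlt : z < k) (hz : 0 < z) (htn : 0 < tn) : tn < 2 * z * i := by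
  obtain ⟨c, rfl⟩ := hzk
  have hc : 2 ≤ c := by
    by_contra h
    interval_cases c <;> simp at hlt
  by_contra hle
  push Not at hle
  obtain ⟨d, rfl⟩ : ∃ d, c = d + 2 := ⟨c - 2, by omega⟩
  rw [show z * (d + 2) - z = z * (d + 1) by rw [mul_add, mul_add, mul_one, mul_two]; omega] at hlo
  have h1 : tn * (z + ix * (z * (d + 1))) ≤ tn * R := Nat.mul_le_mul_left tn hlo
  have h2 : ix * z * (d + 2) * (2 * z * i) ≤ ix * z * (d + 2) * tn := Nat.mul_le_mul_left _ hle
  have h3 : 0 < tn * z := Nat.mul_pos htn hz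
  nlinarith [h1, h2, h3, hup, Nat.zero_le (tn * ix * z * d)]

variable (S : Torus F K q σ) {M : Subgroup (GL (Fin 3) F)}
  (hT : ∀ k ∈ S.T, S.D.toGL k ∈ M) (hMs : M ≤ Cfsg.GU 3 F q ⊓ specialLinear (Fin 3) F)
include S hT hMs

/-- An overgroup of odd order normalises the field. -/
theorem Torus.le_normalizer_of_odd (hq : 4 ≤ q) (h5 : q ≠ 5) (hodd : Odd (Nat.card M)) :
    M ≤ subalgebraNormalizer S.D.ρ.range := by
  obtain ⟨r, k, hr, hr5, hk, hord, hns⟩ := S.exists_prime_element hq h5
  refine S.D.le_normalizer_of_normal S.dim (S.irreducible hq h5 hT) (hMs.trans inf_le_right) hr hr5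
    (by rw [← hord]; exact orderOf_injective (Units.map (S.D.ρ : K →* M3)) (fun a b h => S.toGL_inj h) k)
    (hT k hk) hns le_rfl hodd (fun h hh x hx => M.mul_mem (M.mul_mem hh hx) (M.inv_mem hh)) fun hle => ?_
  obtain ⟨μ, hμ⟩ := (mem_scalars_iff _).1 (hle (hT k hk))
  refine hns 1 (fun h => by have := Nat.le_of_dvd one_pos h; omega) μ ?_
  rw [pow_one]
  exact S.D.scalar_of_comm S.dim hμ

/-- Without transvections, an overgroup has odd order in characteristic two. -/
theorem Torus.le_normalizer_two (hq : 4 ≤ q) (h5 : q ≠ 5) (h2 : (2 : F) = 0) (hno : C6.NoTransv M) :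
    M ≤ subalgebraNormalizer S.D.ρ.range := by
  refine S.le_normalizer_of_odd hT hMs hq h5 ?_
  rw [← Nat.not_even_iff_odd, even_iff_two_dvd]
  intro hdvd
  haveI : Fact (Nat.Prime 2) := ⟨Nat.prime_two⟩
  obtain ⟨⟨g, hgM⟩, hord⟩ := exists_prime_orderOf_dvd_card' 2 hdvd
  rw [Subgroup.orderOf_mk] at hord
  have hgg : (g : M3) * (g : M3) = 1 := by
    rw [← Units.val_mul, ← pow_two, ← hord, pow_orderOf_eq_one, Units.val_one]
  have hg1 : g ≠ 1 := fun h => by rw [h, orderOf_one] at hord; norm_num at hord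
  refine hg1 (eq_one_of_sq_zero hno hgM ?_)
  have e : ((g : M3) - 1) * ((g : M3) - 1) = (2 : F) • (1 - (g : M3)) := by
    rw [sub_mul, mul_sub, mul_sub, hgg, mul_one, one_mul, one_mul]; module
  rw [e, h2, zero_smul]

/-- Without transvections and for odd `q ≥ 13` an overgroup normalises the field. -/
theorem Torus.le_normalizer_odd (hq : 13 ≤ q) (hoddq : Odd q) (hno : C6.NoTransv M) :
    M ≤ subalgebraNormalizer S.D.ρ.range := by
  classical
  refine S.le_normalizer_of_odd hT hMs (by omega) (by omega) ?_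
  rw [← Nat.not_even_iff_odd, even_iff_two_dvd]
  intro hdvd
  haveI : Fact (Nat.Prime 2) := ⟨Nat.prime_two⟩
  obtain ⟨gM, hord⟩ := exists_prime_orderOf_dvd_card' 2 hdvd
  set g : G3 := gM.1 with hgdef
  have hgg : g * g = 1 := by
    rw [hgdef, ← Subgroup.coe_mul, ← pow_two, ← hord, pow_orderOf_eq_one, Subgroup.coe_one]
  have hg1 : g ≠ 1 := fun h => by
    rw [show gM = 1 from Subtype.ext h, orderOf_one] at hord; norm_num at hord
  obtain ⟨p, n, hp, hpF, -, hqn⟩ := S.exists_char
  haveI := Fact.mk hp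
  have hp2 : p ≠ 2 := fun e => by
    rw [hqn, e, Nat.odd_pow_iff (by rintro rfl; simp [hqn] at hq)] at hoddq
    exact absurd hoddq (by decide)
  have h2 : (2 : F) ≠ 0 := fun h => hp2 ((Nat.prime_dvd_prime_iff_eq hp Nat.prime_two).1
    ((CharP.cast_eq_zero_iff F p 2).1 (by exact_mod_cast h)))
  have hdetM : ∀ m : M, ((m : G3) : M3).det = 1 := fun m => C6.mem_sl.1 (hMs m.2).2
  obtain ⟨u, φ, hφu, hgf⟩ := exists_homology h2 (hdetM gM) hgg hg1
  obtain ⟨huu, X, hXu, hXg⟩ := exists_split S.frob S.conj h2 (hMs gM.2).1 hφu hgf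
  -- coordinates on the centraliser
  set C : Subgroup M := Subgroup.centralizer {gM}
  set N : M → M3 := fun m => ((X⁻¹ : G3) : M3) * ((m : G3) : M3) * (X : M3) with hN
  have hN1 : N 1 = 1 := by simp [hN]
  have hNmul : ∀ a b : M, N (a * b) = N a * N b := fun a b => by
    simp only [hN, Subgroup.coe_mul, Units.val_mul, mul_assoc, Units.mul_inv_cancel_left]
  have hblock : ∀ m : C, N m.1 0 1 = 0 ∧ N m.1 0 2 = 0 ∧ N m.1 1 0 = 0 ∧ N m.1 2 0 = 0 := by
    intro m
    have hcomm : gM * m.1 = m.1 * gM := (Subgroup.mem_centralizer_singleton_iff.1 m.2).symm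
    have e : N gM * N m.1 = N m.1 * N gM := by rw [← hNmul, ← hNmul, hcomm]
    rw [show N gM = diagonal ![1, -1, -1] from hXg] at e
    have hij : ∀ i j, (![1, -1, -1] i : F) * N m.1 i j = N m.1 i j * ![1, -1, -1] j := fun i j => by
      have := congrFun (congrFun e i) j
      rwa [diagonal_mul, mul_diagonal] at this
    have z2 : ∀ x : F, x = -x → x = 0 := fun x hx =>
      (mul_eq_zero.1 (show (2 : F) * x = 0 by linear_combination hx)).resolve_left h2
    refine ⟨z2 _ ?_, z2 _ ?_, z2 _ ?_, z2 _ ?_⟩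
    · simpa using hij 0 1
    · simpa using hij 0 2
    · have := hij 1 0; simp at this; exact this.symm
    · have := hij 2 0; simp at this; exact this.symm
  let ψ : C →* M2 :=
    { toFun := fun m => !![N m.1 1 1, N m.1 1 2; N m.1 2 1, N m.1 2 2]
      map_one' := by rw [Subgroup.coe_one, hN1]; ext i j; fin_cases i <;> fin_cases j <;> simp
      map_mul' := fun a b => by
        obtain ⟨-, -, a10, a20⟩ := hblock a
        rw [Subgroup.coe_mul, hNmul]
        ext i j
        fin_cases i <;> fin_cases j <;> simp [Matrix.mul_apply, Fin.sum_univ_three, Fin.sum_univ_two, a10, a20] }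
  let χ : C →* F :=
    { toFun := fun m => N m.1 0 0
      map_one' := by simp [hN1]
      map_mul' := fun a b => by
        obtain ⟨a01, a02, -, -⟩ := hblock a
        simp [hNmul, Matrix.mul_apply, Fin.sum_univ_three, a01, a02] }
  let θ : C →* ProjGenLinGroup (Fin 2) F := ProjGenLinGroup.mk.comp ψ.toHomUnits
  have hdet : ∀ m : C, χ m * (ψ m).det = 1 := fun m => by
    obtain ⟨z1, z2, z3, z4⟩ := hblock m
    have e : (N m.1).det = 1 := by
      rw [hN, det_units_conj']; exact hdetM _
    rw [det_fin_three, z1, z2, z3, z4] at e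
    show N m.1 0 0 * (!![N m.1 1 1, N m.1 1 2; N m.1 2 1, N m.1 2 2]).det = 1
    rw [det_fin_two_of]
    linear_combination e
  have hlam : ∀ m : C, σ (χ m) * χ m = 1 := fun m => by
    obtain ⟨z1, z2, z3, z4⟩ := hblock m
    have hmu : ((m.1 : G3) : M3) *ᵥ u = χ m • u := by
      have hcol : N m.1 *ᵥ Pi.single 0 1 = χ m • Pi.single 0 (1 : F) := by
        funext i
        rw [mulVec_single_one]
        fin_cases i <;> simp [χ, z3, z4]
      rw [← hXu, mulVec_mulVec, show ((m.1 : G3) : M3) * (X : M3) = (X : M3) * N m.1 by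
        simp only [hN, ← mul_assoc, Units.mul_inv, one_mul], ← mulVec_mulVec, hcol, mulVec_smul]
    have e := (mem_GU_iff S.frob).1 (hMs m.1.2).1 u u
    rw [hmu, map_smul, map_smulₛₗ, LinearMap.smul_apply, smul_eq_mul, smul_eq_mul, ← mul_assoc,
      mul_comm (χ m)] at e
    exact mul_right_cancel₀ huu (e.trans (one_mul _).symm)
  have htr : ∀ m : C, σ (ψ m).trace * (ψ m).det = (ψ m).trace := fun m => by
    obtain ⟨z1, z2, z3, z4⟩ := hblock m
    have e1 := gu_trace S.frob S.conj (hMs m.1.2).1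
    rw [show ((m.1 : G3) : M3).trace = (N m.1).trace by
        simp only [hN]; rw [Matrix.trace_units_conj'],
      show (((m.1 : G3)⁻¹ : G3) : M3).trace = (N m.1⁻¹).trace by
        simp only [hN, Subgroup.coe_inv]; rw [Matrix.trace_units_conj']] at e1
    have hadj : N m.1⁻¹ = (N m.1).adjugate := by
      have h1 : N m.1⁻¹ * N m.1 = 1 := by rw [← hNmul, inv_mul_cancel, hN1]
      have h2 : (N m.1).det = 1 := by rw [hN, det_units_conj']; exact hdetM _
      have h3 := congrArg (fun Y => Y * (N m.1).adjugate) h1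
      simpa [mul_assoc, Matrix.mul_adjugate, h2] using h3
    rw [hadj, trace_fin_three, trace_fin_three, map_add, map_add] at e1
    simp [adjugate_fin_three, z1, z2, z3, z4] at e1
    have hl := hlam m
    have hd := hdet m
    simp only [χ, ψ, MonoidHom.coe_mk, OneHom.coe_mk, det_fin_two_of, trace_fin_two_of] at hl hd ⊢
    rw [map_add]
    linear_combination (N m.1 1 1 * N m.1 2 2 - N m.1 1 2 * N m.1 2 1) * e1 -
      (N m.1 1 1 * N m.1 2 2 - N m.1 1 2 * N m.1 2 1) ^ 2 * hl +
      ((N m.1 1 1 * N m.1 2 2 - N m.1 1 2 * N m.1 2 1) * σ (N m.1 0 0) + (N m.1 1 1 + N m.1 2 2)) * hd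
  -- no elements of order `p`
  have hpC : ¬ p ∣ Nat.card C := fun h => by
    obtain ⟨m, hm⟩ := exists_prime_orderOf_dvd_card' p h
    have hmp : m ^ p = 1 := hm ▸ pow_orderOf_eq_one m
    have hψ : (ψ m - 1) ^ p = 0 := by
      rw [sub_pow_char_of_commute p (Commute.one_right _), one_pow, ← map_pow, hmp, map_one, sub_self]
    have hχ : χ m = 1 := by
      have : (χ m - 1) ^ p = 0 := by rw [sub_pow_char, one_pow, ← map_pow, hmp, map_one, sub_self]
      exact sub_eq_zero.1 (eq_zero_of_pow_eq_zero this)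
    have hd0 : (ψ m - 1).det = 0 := eq_zero_of_pow_eq_zero (n := p) (by
      rw [← det_pow, hψ, det_zero])
    have ht0 : (ψ m - 1).trace = 0 := IsNilpotent.eq_zero (Matrix.isNilpotent_trace_of_isNilpotent ⟨p, hψ⟩)
    have hd1 := hdet m
    rw [hχ, one_mul] at hd1
    obtain ⟨z1, z2, z3, z4⟩ := hblock m
    have hY : (N m.1 - 1) * (N m.1 - 1) = 0 := by
      have h00 : N m.1 0 0 = 1 := hχ
      rw [trace_fin_two] at ht0
      rw [det_fin_two] at hd0
      simp [ψ] at ht0 hd0
      ext i j
      fin_cases i <;> fin_cases j <;>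
        simp [Matrix.mul_apply, Fin.sum_univ_three, z1, z2, z3, z4, h00]
      · linear_combination (N m.1 1 1 - 1) * ht0 - hd0
      · linear_combination (N m.1 1 2) * ht0
      · linear_combination (N m.1 2 1) * ht0
      · linear_combination (N m.1 2 2 - 1) * ht0 - hd0
    have hm1 := eq_one_of_sq_zero hno m.1.2 (by
      have e : ((m.1 : G3) : M3) - 1 = (X : M3) * (N m.1 - 1) * ((X⁻¹ : G3) : M3) := by
        simp only [hN, mul_sub, sub_mul, ← mul_assoc, Units.mul_inv, one_mul, mul_one]
        simp only [mul_assoc, Units.mul_inv, mul_one]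
      rw [e, show (X : M3) * (N m.1 - 1) * ((X⁻¹ : G3) : M3) * ((X : M3) * (N m.1 - 1) * ((X⁻¹ : G3) : M3)) =
        (X : M3) * ((N m.1 - 1) * (N m.1 - 1)) * ((X⁻¹ : G3) : M3) by
          simp only [mul_assoc, Units.inv_mul_cancel_left], hY, mul_zero, zero_mul])
    rw [show m = 1 from Subtype.ext (Subtype.ext hm1), orderOf_one] at hm
    exact hp.one_lt.ne hm
  set G := θ.range
  have hpG : ¬ p ∣ Nat.card G := fun h => hpC (h.trans (Subgroup.card_range_dvd θ))
  have hord' : ∀ x ∈ G, x ^ (q - 1) = 1 ∨ x ^ (q + 1) = 1 := by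
    rintro _ ⟨m, rfl⟩
    have hb : (ψ m).det * σ (ψ m).det = 1 := by
      have hl := hlam m
      have hd := hdet m
      have hd' := congrArg σ hd
      rw [map_mul, map_one] at hd'
      linear_combination ((ψ m).det * σ (ψ m).det) * (-hl) + hd * (σ (χ m) * σ (ψ m).det) + hd'
    rcases pgl_order S.card S.frob S.conj hoddq p (A := ψ.toHomUnits m) hb (htr m) with h | h | h
    · have h1 : θ m = 1 := by
        by_contra h1
        refine hpG ?_
        have := orderOf_dvd_natCard (⟨θ m, MonoidHom.mem_range.2 ⟨m, rfl⟩⟩ : θ.range)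
        rw [← Subgroup.orderOf_coe] at this
        change orderOf (θ m) ∣ _ at this
        rwa [orderOf_eq_prime (x := θ m) h h1] at this
      exact .inl (by rw [h1, one_pow])
    · exact .inl h
    · exact .inr h
  -- scalars and the kernel
  set Z : Subgroup M := (scalars (Fin 3) F).subgroupOf M with hZ
  set Kc : Subgroup M := θ.ker.map C.subtype with hKc
  have hZC : ∀ z ∈ Z, z ∈ C := fun z hz => Subgroup.mem_centralizer_singleton_iff.2
    (Subtype.ext (AschPrime.scalars_comm hz _))
  have hgC : gM ∈ C := Subgroup.mem_centralizer_singleton_iff.2 rfl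
  have hZK : Z ≤ Kc := fun z hz => by
    obtain ⟨μ, hμ⟩ := (mem_scalars_iff _).1 (Subgroup.mem_subgroupOf.1 hz)
    refine ⟨⟨z, hZC z hz⟩, ?_, rfl⟩
    rw [SetLike.mem_coe, MonoidHom.mem_ker]
    show ProjGenLinGroup.mk (ψ.toHomUnits _) = 1
    rw [show ψ.toHomUnits ⟨z, hZC z hz⟩ = Matrix.GeneralLinearGroup.scalar (Fin 2) μ from ?_,
      ProjGenLinGroup.mk_scalar]
    have hNz : N z = (μ : F) • 1 := by simp [hN, hμ]
    refine Units.ext ?_
    show ψ _ = _
    ext i j
    fin_cases i <;> fin_cases j <;> simp [ψ, hNz, Matrix.smul_apply]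
  have hgK : gM ∈ Kc := by
    refine ⟨⟨gM, hgC⟩, ?_, rfl⟩
    rw [SetLike.mem_coe, MonoidHom.mem_ker]
    show ProjGenLinGroup.mk (ψ.toHomUnits _) = 1
    rw [show ψ.toHomUnits ⟨gM, hgC⟩ = Matrix.GeneralLinearGroup.scalar (Fin 2) (-1) from ?_,
      ProjGenLinGroup.mk_scalar]
    have hNg : N gM = diagonal ![1, -1, -1] := hXg
    refine Units.ext ?_
    show ψ _ = _
    ext i j
    fin_cases i <;> fin_cases j <;> simp [ψ, hNg]
  have hgE : ∀ x, (g : M3) *ᵥ x = (2 * (φ ⬝ᵥ x)) • u - x := fun x => by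
    rw [hgf, sub_mulVec, one_mulVec, smul_mulVec, vecMulVec_mulVec, op_smul_eq_smul, smul_smul]
  have hgZ : gM ∉ Z := fun h => by
    obtain ⟨μ, hμ⟩ := (mem_scalars_iff _).1 (Subgroup.mem_subgroupOf.1 h)
    have hu1 : (g : M3) *ᵥ u = u := by rw [hgE, hφu, mul_one, two_smul, add_sub_cancel_right]
    rw [show (g : M3) = (μ : F) • 1 from hμ, smul_mulVec, one_mulVec] at hu1
    have hu0 : u ≠ 0 := fun e => huu (by rw [e, map_zero])
    have hμ1 : (μ : F) = 1 := smul_left_injective F hu0 (hu1.trans (one_smul F u).symm)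
    exact hg1 (Units.ext (by rw [show (g : M3) = (μ : F) • 1 from hμ, hμ1, one_smul, Units.val_one]))
  -- the form of the kernel
  set E : M3 := vecMulVec u φ with hE
  have hEE : E * E = E := by rw [hE, vecMulVec_mul_vecMulVec, vecMulVec_smul, hφu, one_smul]
  have hform : ∀ m ∈ Kc, ∃ a c : F, ((m : G3) : M3) = a • 1 + c • E := by
    rintro _ ⟨m, hm, rfl⟩
    obtain ⟨α, hα⟩ : ∃ α : F, ψ m = α • 1 := by
      have h := ProjGenLinGroup.mk_eq_one.1 (show ProjGenLinGroup.mk (ψ.toHomUnits m) = 1 from hm)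
      rw [GeneralLinearGroup.center_eq_range_scalar] at h
      obtain ⟨α, hα⟩ := h
      refine ⟨α, ?_⟩
      rw [← MonoidHom.coe_toHomUnits ψ m, ← hα]
      simp [Matrix.smul_one_eq_diagonal]
    refine ⟨α, χ m - α, ?_⟩
    obtain ⟨z1, z2, z3, z4⟩ := hblock m
    have hα' : ∀ i j, ψ m i j = (α • (1 : M2)) i j := fun i j => by rw [hα]
    have a00 := hα' 0 0; have a01 := hα' 0 1; have a10 := hα' 1 0; have a11 := hα' 1 1
    simp [ψ] at a00 a01 a10 a11
    have hEX : ((X⁻¹ : G3) : M3) * E * (X : M3) = diagonal ![1, 0, 0] := by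
      have hgE' : E = (2 : F)⁻¹ • ((g : M3) + 1) := by
        rw [hgf, sub_add_cancel, smul_smul, inv_mul_cancel₀ h2, one_smul]
      rw [hgE', mul_smul_comm, smul_mul_assoc, mul_add, add_mul, hXg, mul_one, Units.inv_mul]
      ext i j
      fin_cases i <;> fin_cases j <;> simp [Matrix.diagonal]
      all_goals field_simp
      all_goals ring
    have hNe : N m.1 = α • 1 + (χ m - α) • diagonal ![1, 0, 0] := by
      ext i j
      fin_cases i <;> fin_cases j <;> simp [χ, z1, z2, z3, z4, a00, a01, a10, a11, Matrix.diagonal]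
    rw [← hEX] at hNe
    calc ((m.1 : G3) : M3) = (X : M3) * N m.1 * ((X⁻¹ : G3) : M3) := by
          simp only [hN, ← mul_assoc, Units.mul_inv, one_mul]
          simp only [mul_assoc, Units.mul_inv, mul_one]
      _ = _ := by
          rw [hNe]
          simp only [mul_add, add_mul, mul_smul_comm, smul_mul_assoc, ← mul_assoc, Units.mul_inv, one_mul, mul_one]
          simp only [mul_assoc, Units.mul_inv, mul_one]
  -- the upper bound
  set T0 : Subgroup M := (S.T.map (Units.map (S.D.ρ : K →* M3))).subgroupOf M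
  have hT0le : S.T.map (Units.map (S.D.ρ : K →* M3)) ≤ M := by rintro _ ⟨k, hk, rfl⟩; exact hT k hk
  have hT0c : Nat.card T0 = tn q := by
    rw [Nat.card_congr (Subgroup.subgroupOfEquivOfLe hT0le).toEquiv,
      Subgroup.card_map_of_injective (fun a b h => S.toGL_inj h), S.card_T]
  set Rs : Finset M := Finset.univ.filter fun m => planeScalar ((m : G3) : M3) with hRs
  have hup : tn q * Rs.card ≤ Nat.card Z * Nat.card M := by
    have hfib : ∀ x ∈ Rs, (Rs.filter fun y => (QuotientGroup.mk y : M ⧸ T0) = QuotientGroup.mk x).card ≤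
        Nat.card Z := by
      intro x hx
      rw [hRs, Finset.mem_filter] at hx
      obtain ⟨-, a, w, f, hxf⟩ := hx
      rw [Nat.card_eq_fintype_card, Fintype.card_subtype]
      refine Finset.card_le_card_of_injOn (fun y => x⁻¹ * y) (fun y hy => ?_)
        fun y _ y' _ e => mul_left_cancel e
      simp only [Finset.coe_filter, Set.mem_setOf_eq, Finset.mem_filter, Finset.mem_univ, true_and, hRs] at hy ⊢
      obtain ⟨⟨b, w', f', hyf⟩, hyx⟩ := hy
      obtain ⟨t, ht, htv⟩ := Subgroup.mem_subgroupOf.1 (QuotientGroup.eq.1 hyx.symm)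
      obtain ⟨v, hv0, hv1, hv2⟩ := exists_common f f'
      have hxv : ((x : G3) : M3) *ᵥ v = a • v := by
        rw [hxf, add_mulVec, smul_mulVec, one_mulVec, vecMulVec_mulVec, hv1, MulOpposite.op_zero, zero_smul,
          add_zero]
      have hyv : ((y : G3) : M3) *ᵥ v = b • v := by
        rw [hyf, add_mulVec, smul_mulVec, one_mulVec, vecMulVec_mulVec, hv2, MulOpposite.op_zero, zero_smul,
          add_zero]
      have ha0 : a ≠ 0 := fun e => hv0 (by
        have := congrArg (fun z => (((x : G3)⁻¹ : G3) : M3) *ᵥ z) hxv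
        simpa [e, mulVec_mulVec, ← Units.val_mul] using this)
      have hinv : (((x : G3)⁻¹ : G3) : M3) *ᵥ v = a⁻¹ • v := by
        have := congrArg (fun z => a⁻¹ • ((((x : G3)⁻¹ : G3) : M3) *ᵥ z)) hxv
        rw [mulVec_mulVec, ← Units.val_mul, inv_mul_cancel, Units.val_one, one_mulVec, mulVec_smul,
          inv_smul_smul₀ ha0] at this
        exact this.symm
      have htv' : (((x⁻¹ * y : M) : G3) : M3) *ᵥ v = (b * a⁻¹) • v := by
        rw [Subgroup.coe_mul, Subgroup.coe_inv, Units.val_mul, ← mulVec_mulVec, hyv, mulVec_smul, hinv, smul_smul]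
      obtain ⟨z, rfl⟩ := S.D.Φ.surjective v
      have hz0 : z ≠ 0 := fun e => hv0 (by rw [e, map_zero])
      have htc : (t : K) = algebraMap F K (b * a⁻¹) := mul_right_cancel₀ hz0 (S.D.Φ.injective (by
        rw [← S.D.toGL_mulVec, ← Algebra.smul_def, map_smul, ← htv']
        exact congrArg (fun g : G3 => (g : M3) *ᵥ S.D.Φ z) htv))
      have hne : b * a⁻¹ ≠ 0 := fun e => t.ne_zero (by rw [htc, e, map_zero])
      refine Subgroup.mem_subgroupOf.2 ((mem_scalars_iff _).2 ⟨Units.mk0 _ hne, ?_⟩)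
      rw [← htv]
      show S.D.ρ (t : K) = _
      rw [htc, AlgHom.commutes, Algebra.algebraMap_eq_smul_one, Units.val_mk0]
    have h1 := Finset.card_le_mul_card_image (f := fun y : M => (QuotientGroup.mk y : M ⧸ T0)) Rs (Nat.card Z)
      fun c hc => by
        obtain ⟨x, hx, rfl⟩ := Finset.mem_image.1 hc
        exact hfib x hx
    have h2 : (Rs.image fun y : M => (QuotientGroup.mk y : M ⧸ T0)).card ≤ Nat.card (M ⧸ T0) := by
      rw [Nat.card_eq_fintype_card]; exact Finset.card_le_univ _
    calc tn q * Rs.card ≤ tn q * (Nat.card Z * Nat.card (M ⧸ T0)) :=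
          Nat.mul_le_mul_left _ (h1.trans (Nat.mul_le_mul_left _ h2))
      _ = Nat.card Z * Nat.card M := by
          rw [Subgroup.card_eq_card_quotient_mul_card_subgroup T0, hT0c]; ring
  -- the lower bound
  have hlo : Nat.card Z + Nat.card (M ⧸ C) * (Nat.card Kc - Nat.card Z) ≤ Rs.card := by
    set Zf : Finset M := Finset.univ.filter (· ∈ Z)
    set Kf : Finset M := Finset.univ.filter (· ∈ Kc)
    set Q : Finset ((M ⧸ C) × M) := Finset.univ ×ˢ (Kf \ Zf)
    let cj : (M ⧸ C) × M → M := fun x => x.1.out * x.2 * x.1.out⁻¹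
    have hnsZ : ∀ h m : M, m ∉ Z → h * m * h⁻¹ ∉ Z := fun h m hm hh => hm (by
      have e : h * m * h⁻¹ * h = h * (h * m * h⁻¹) := Subtype.ext (AschPrime.scalars_comm hh _)
      rw [inv_mul_cancel_right] at e
      rwa [← mul_left_cancel e] at hh)
    have hcj : Set.InjOn cj Q := by
      rintro ⟨c₁, m₁⟩ h1 ⟨c₂, m₂⟩ h2 e
      simp only [Q, Kf, Zf, Finset.coe_product, Set.mem_prod, Finset.coe_sdiff, Set.mem_sdiff, Finset.coe_filter,
        Finset.mem_univ, true_and, Set.mem_setOf_eq] at h1 h2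
      set h := c₂.out⁻¹ * c₁.out with hh
      have e' : h * m₁ = m₂ * h := by
        have := congrArg (fun z => c₂.out⁻¹ * z * c₁.out) e
        simp only [cj] at this
        simpa [hh, mul_assoc] using this
      obtain ⟨a₁, b₁, hm₁⟩ := hform m₁ h1.2.1
      obtain ⟨a₂, b₂, hm₂⟩ := hform m₂ h2.2.1
      have hb₁ : b₁ ≠ 0 := fun h0 => h1.2.2 (Subgroup.mem_subgroupOf.2 ((mem_scalars_iff _).2
        ⟨Units.mk0 a₁ fun ha => by
          have := hdetM m₁
          rw [hm₁, h0, ha, zero_smul, zero_smul, add_zero, det_zero] at this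
          exact zero_ne_one this, by rw [Units.val_mk0, hm₁, h0, zero_smul, add_zero]⟩))
      have e3 := congrArg (fun z : M => ((z : G3) : M3)) e'
      simp only [Subgroup.coe_mul, Units.val_mul, hm₁, hm₂] at e3
      -- a common vector
      obtain ⟨v, hv0, hv1, hv2⟩ := exists_common φ (φ ᵥ* ((h : G3) : M3))
      have hEv : E *ᵥ v = 0 := by rw [hE, vecMulVec_mulVec, hv1, MulOpposite.op_zero, zero_smul]
      have hEhv : E *ᵥ (((h : G3) : M3) *ᵥ v) = 0 := by
        rw [hE, vecMulVec_mulVec, dotProduct_mulVec, hv2, MulOpposite.op_zero, zero_smul]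
      have hhv : ((h : G3) : M3) *ᵥ v ≠ 0 := fun e => hv0 (by
        have := congrArg (fun z => (((h : G3)⁻¹ : G3) : M3) *ᵥ z) e
        simpa [mulVec_mulVec, ← Units.val_mul] using this)
      have ha : a₁ = a₂ := by
        have := congrArg (fun Y : M3 => Y *ᵥ v) e3
        simp only [← mulVec_mulVec, add_mulVec, smul_mulVec, one_mulVec, hEv, hEhv, smul_zero, add_zero,
          mulVec_smul] at this
        exact smul_left_injective F hhv this
      subst ha
      have e4 : b₁ • (((h : G3) : M3) * E) = b₂ • (E * ((h : G3) : M3)) := by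
        simp only [mul_add, add_mul, mul_smul_comm, smul_mul_assoc, mul_one, one_mul] at e3
        exact add_left_cancel e3
      have hE0 : E * ((h : G3) : M3) ≠ 0 := fun e => by
        have h0 : E = 0 := by
          have := congrArg (fun Y : M3 => Y * (((h : G3)⁻¹ : G3) : M3)) e
          simpa [mul_assoc, ← Units.val_mul] using this
        have := congrArg (fun Y : M3 => Y *ᵥ u) h0
        rw [hE, vecMulVec_mulVec, hφu, MulOpposite.op_one, one_smul, zero_mulVec] at this
        exact huu (by rw [this, map_zero])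
      have hb : b₁ = b₂ := by
        -- square both sides
        have e5 := congrArg (fun Y : M3 => Y * E) e4
        have e6 := congrArg (fun Y : M3 => E * Y) e4
        simp only [smul_mul_assoc, mul_smul_comm, mul_assoc, hEE] at e5 e6
        rw [← mul_assoc E E, hEE] at e6
        have e7 : b₁ • (E * (((h : G3) : M3) * E)) = b₂ • (E * ((h : G3) : M3)) := e6
        have e8 : b₁ • (((h : G3) : M3) * E) = b₂ • (E * (((h : G3) : M3) * E)) := e5
        have e9 : (b₁ * b₁) • (((h : G3) : M3) * E) = (b₂ * b₁) • (E * (((h : G3) : M3) * E)) := by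
          rw [mul_smul, e8, smul_smul, mul_comm]
        rw [mul_smul b₂ b₁, e7, smul_smul] at e9
        have e10 : (b₁ * b₁) • (((h : G3) : M3) * E) = (b₁ * b₂) • (E * ((h : G3) : M3)) := by
          rw [mul_smul, e4, smul_smul]
        have e11 : ((b₂ - b₁) * b₂) • (E * ((h : G3) : M3)) = 0 := by
          rw [sub_mul, sub_smul, ← e10, ← e9, sub_self]
        rcases mul_eq_zero.1 ((smul_eq_zero.1 e11).resolve_right hE0) with e | e
        · exact (sub_eq_zero.1 e).symm
        · rw [e, zero_smul, smul_eq_zero] at e4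
          exfalso
          refine (e4.resolve_left hb₁ |> fun e0 => ?_)
          have h0 : E = 0 := by
            have := congrArg (fun Y : M3 => (((h : G3)⁻¹ : G3) : M3) * Y) e0
            simpa [← mul_assoc, ← Units.val_mul] using this
          exact hE0 (by rw [h0, zero_mul])
      subst hb
      have hcom : ((h : G3) : M3) * (g : M3) = (g : M3) * ((h : G3) : M3) := by
        rw [hgf, mul_sub, sub_mul, mul_one, one_mul, mul_smul_comm, smul_mul_assoc,
          smul_right_injective M3 hb₁ e4]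
      have hhC : h ∈ C := Subgroup.mem_centralizer_singleton_iff.2 (Subtype.ext (Units.ext hcom))
      have hc : c₂ = c₁ := by
        rw [← Quotient.out_eq c₂, ← Quotient.out_eq c₁]
        exact QuotientGroup.eq.2 hhC
      subst hc
      simp only [cj, mul_left_inj, mul_right_inj] at e
      rw [e]
    have hsub : Zf ∪ Q.image cj ⊆ Rs := by
      intro x hx
      rw [hRs, Finset.mem_filter]
      refine ⟨Finset.mem_univ _, ?_⟩
      rcases Finset.mem_union.1 hx with hx | hx
      · obtain ⟨μ, hμ⟩ := (mem_scalars_iff _).1 (Subgroup.mem_subgroupOf.1 (Finset.mem_filter.1 hx).2)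
        exact ⟨μ, 0, 0, by rw [hμ, zero_vecMulVec, add_zero]⟩
      · obtain ⟨⟨c, m⟩, hm, rfl⟩ := Finset.mem_image.1 hx
        simp only [Q, Kf, Finset.mem_product, Finset.mem_sdiff, Finset.mem_filter] at hm
        obtain ⟨a, b, hab⟩ := hform m hm.2.1.2
        refine ⟨a, b • (((c.out : M) : G3) : M3) *ᵥ u, φ ᵥ* ((((c.out : M) : G3)⁻¹ : G3) : M3), ?_⟩
        rw [smul_vecMulVec, ← mul_vecMulVec, ← vecMulVec_mul]
        simp only [cj, Subgroup.coe_mul, Subgroup.coe_inv, Units.val_mul, hab, hE, mul_add, add_mul,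
          mul_smul_comm, smul_mul_assoc, mul_one, one_mul, Units.mul_inv, mul_assoc]
    have hdisj : Disjoint Zf (Q.image cj) := Finset.disjoint_left.2 fun x hx hx' => by
      obtain ⟨⟨c, m⟩, hm, rfl⟩ := Finset.mem_image.1 hx'
      simp only [Q, Zf, Finset.mem_product, Finset.mem_sdiff, Finset.mem_filter] at hm hx
      exact hnsZ _ m (fun h => hm.2.2 ⟨Finset.mem_univ _, h⟩) hx.2
    have := Finset.card_le_card hsub
    rw [Finset.card_union_of_disjoint hdisj, Finset.card_image_of_injOn hcj, Finset.card_product,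
      Finset.card_univ, Finset.card_sdiff_of_subset (fun x hx => by
        simp only [Zf, Kf, Finset.mem_filter] at hx ⊢; exact ⟨hx.1, hZK hx.2⟩)] at this
    simpa [Zf, Kf, Nat.card_eq_fintype_card, ← Fintype.card_subtype] using this
  -- the inequality
  have hK : Nat.card Kc * Nat.card G = Nat.card C := by
    rw [hKc, Subgroup.card_map_of_injective C.subtype_injective,
      Subgroup.card_eq_card_quotient_mul_card_subgroup θ.ker,
      Nat.card_congr (QuotientGroup.quotientKerEquivRange θ).toEquiv, mul_comm]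
  have hlt : Nat.card Z < Nat.card Kc := by
    refine lt_of_le_of_ne (Subgroup.card_le_of_le hZK) fun e => hgZ ?_
    rw [Subgroup.eq_of_le_of_card_ge hZK e.ge]
    exact hgK
  have main : tn q < 2 * Nat.card Z * Nat.card G := counting (ix := Nat.card (M ⧸ C))
    (by rw [hK, ← Subgroup.card_eq_card_quotient_mul_card_subgroup C]; exact hup) hlo
    (Subgroup.card_dvd_of_le hZK) hlt Nat.card_pos (Nat.succ_pos _)
  -- the scalars
  have hz : Nat.card Z ≤ Nat.gcd 3 (q + 1) := by
    let f : F →+* M3 := Matrix.scalar (Fin 3)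
    set ι : Fˣ →* G3 := Units.map f.toMonoidHom
    have hι : Function.Injective ι := Units.map_injective (fun a b h => Matrix.scalar_inj.1 h)
    set H : Subgroup Fˣ := M.comap ι
    have hle : Nat.card Z ≤ Nat.card (H.map ι) := by
      refine Nat.card_le_card_of_injective (fun z : Z => ⟨((z : M) : G3), ?_⟩) fun a b e =>
        Subtype.ext (Subtype.ext (congrArg (fun x : H.map ι => (x : G3)) e))
      obtain ⟨μ, hμ⟩ := Subgroup.mem_subgroupOf.1 z.2
      exact ⟨μ, show ι μ ∈ M by rw [show ι μ = ((z : M) : G3) from hμ]; exact (z : M).2, hμ⟩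
    rw [Subgroup.card_map_of_injective hι] at hle
    refine hle.trans (card_roots_pow_le _ (Nat.gcd_pos_of_pos_left _ (by norm_num)) H fun μ hμ => ?_)
    have hval : ((ι μ : G3) : M3) = (μ : F) • 1 := by
      simp [ι, f, Matrix.smul_one_eq_diagonal]
    have h3 : μ ^ 3 = 1 := Units.ext (by
      have := C6.mem_sl.1 (hMs hμ).2
      rw [hval, det_smul, det_one, mul_one, Fintype.card_fin] at this
      simpa using this)
    have hq1 : μ ^ (q + 1) = 1 := Units.ext (by
      have := (mem_GU_iff S.frob).1 (hMs hμ).1 u u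
      rw [hval, smul_mulVec, one_mulVec, map_smul, map_smulₛₗ, LinearMap.smul_apply, smul_eq_mul, smul_eq_mul,
        ← mul_assoc, S.frob, ← pow_succ'] at this
      simpa using mul_right_cancel₀ huu (this.trans (one_mul _).symm))
    exact pow_gcd_eq_one.2 ⟨h3, hq1⟩
  rcases Nat.lt_or_ge (Nat.card Z) 2 with hz1 | hz2
  · refine cases_bound hp hpG hord' hq hoddq main (.inl (by omega))
  · refine cases_bound hp hpG hord' hq hoddq main (.inr ⟨hz.trans (Nat.gcd_le_left _ (by norm_num)), ?_⟩)
    rcases (Nat.dvd_prime Nat.prime_three).1 (Nat.gcd_dvd_left 3 (q + 1)) with e | e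
    · omega
    · exact e ▸ Nat.gcd_dvd_right 3 (q + 1)
where
  cases_bound {p : ℕ} [Fact p.Prime] [CharP F p] [DecidableEq F] {G : Subgroup (ProjGenLinGroup (Fin 2) F)}
      {z : ℕ} (hp : p.Prime) (hpG : ¬ p ∣ Nat.card G) (hord : ∀ x ∈ G, x ^ (q - 1) = 1 ∨ x ^ (q + 1) = 1)
      (hq : 13 ≤ q) (hodd : Odd q) (main : tn q < 2 * z * Nat.card G)
      (hz : z ≤ 1 ∨ (z ≤ 3 ∧ 3 ∣ q + 1)) : False := by
    have htn : tn q + q = q * q + 1 := by rw [tn, pow_two]; have : q ≤ q * q := Nat.le_mul_self q; omega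
    have hsmall : ∀ n, Nat.card G ≤ n → (q * q + 1 < 2 * n + q ∨ 3 ∣ q + 1 ∧ q * q + 1 < 6 * n + q) := by
      intro n hn
      rcases hz with hz | ⟨hz, h3⟩
      · left; nlinarith
      · right; exact ⟨h3, by nlinarith⟩
    obtain ⟨m, rfl⟩ := hodd
    rcases KnownA.MinIndexU3.pgl_types p G hpG with ⟨M', hcyc, -, hidx⟩ | h | h | h
    · have hle : Nat.card G ≤ 2 * (2 * m + 1 + 1) := by
        obtain ⟨x, hx⟩ := IsCyclic.exists_ofOrder_eq_natCard (α := M')
        rw [← M'.index_mul_card, ← hx]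
        refine Nat.mul_le_mul hidx ?_
        rw [← Subgroup.orderOf_coe, ← Subgroup.orderOf_coe]
        rcases hord _ (x : G).2 with e | e
        · exact (orderOf_le_of_pow_eq_one (by omega) e).trans (by omega)
        · exact orderOf_le_of_pow_eq_one (by omega) e
      rcases hsmall _ hle with e | ⟨h3, e⟩
      · nlinarith
      · rcases Nat.lt_or_ge m 7 with h | h
        · interval_cases m <;> omega
        · nlinarith
    · rcases hsmall _ h.le with e | ⟨h3, e⟩ <;> nlinarith
    · rcases hsmall _ h.le with e | ⟨h3, e⟩ <;> nlinarith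
    · rcases hsmall _ h.le with e | ⟨h3, e⟩
      · nlinarith
      · have hm : m = 8 := by
          have : m < 10 := by nlinarith
          interval_cases m <;> omega
        subst hm
        haveI : Fact (Nat.Prime 5) := ⟨by norm_num⟩
        obtain ⟨x, hx⟩ := exists_prime_orderOf_dvd_card' 5 (show 5 ∣ Nat.card G by rw [h]; norm_num)
        rw [← Subgroup.orderOf_coe] at hx
        rcases hord _ x.2 with e' | e' <;>
        · have := orderOf_dvd_of_pow_eq_one e'
          rw [hx] at this
          norm_num at this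

end CfsgLib.Classical.GeoThree.SU.Singer
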