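import Cfsg.Agent.Lib.Classical.GeoThree.SU.Bridge
import Cfsg.Agent.Lib.Classical.Dickson.Main
import Cfsg.Agent.Lib.Classical.Dickson.Generation
import Cfsg.Agent.Lib.Classical.Dickson.MaxClass
import Cfsg.Agent.Lib.Classical.SUUnipotentField

/-!
# Two groups of transvections in `GU₃` with non-orthogonal centres

On the plane of the centres they are groups of unitriangular matrices in `SL₂` over the fixed field, where
Dickson's list applies.
-/

set_option autoImplicit false
set_option linter.unusedSectionVars false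
set_option linter.style.haveILetI false
set_option backward.isDefEq.respectTransparency false

open Matrix Module
open scoped MatrixGroups

namespace CfsgLib.Classical.GeoThree.SU.Singer

open CfsgLib.Classical
open scoped CfsgLib.Classical.Dickson

variable {F : Type*} [Field F] [Fintype F] {σ : F →+* F}

local notation "M3" => Matrix (Fin 3) (Fin 3) F
local notation "G3" => GL (Fin 3) F
local notation "B" => stdHerm σ 3

/-- The lower unitriangular matrix. -/
def low {L : Type*} [Field L] (b : L) : SL(2, L) := ⟨!![1, 0; b, 1], by simp⟩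

/-- The elements of `M` seen on the plane of `v` and `w`, in the basis `v, w'`. -/
def realS (σ : F →+* F) (M : Subgroup (GL (Fin 3) F)) (v w w' : Fin 3 → F) (L : Subfield F) :
    Subgroup SL(2, L) where
  carrier := {s | ∃ g ∈ M, (g : M3) *ᵥ v = (s.1 0 0 : F) • v + (s.1 1 0 : F) • w' ∧
    (g : M3) *ᵥ w' = (s.1 0 1 : F) • v + (s.1 1 1 : F) • w' ∧
    ∀ x, stdHerm σ 3 v x = 0 → stdHerm σ 3 w x = 0 → (g : M3) *ᵥ x = x}
  one_mem' := ⟨1, one_mem M, by simp, by simp, fun x _ _ => by simp⟩
  mul_mem' := by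
    rintro s s' ⟨g, hg, e1, e2, e3⟩ ⟨g', hg', f1, f2, f3⟩
    refine ⟨g * g', mul_mem hg hg', ?_, ?_, fun x hx hx' => by
      rw [Units.val_mul, ← mulVec_mulVec, f3 x hx hx', e3 x hx hx']⟩
    · rw [Units.val_mul, ← mulVec_mulVec, f1, mulVec_add, mulVec_smul, mulVec_smul, e1, e2]
      simp only [Matrix.SpecialLinearGroup.coe_mul, Matrix.mul_apply, Fin.sum_univ_two]
      push_cast
      module
    · rw [Units.val_mul, ← mulVec_mulVec, f2, mulVec_add, mulVec_smul, mulVec_smul, e1, e2]
      simp only [Matrix.SpecialLinearGroup.coe_mul, Matrix.mul_apply, Fin.sum_univ_two]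
      push_cast
      module
  inv_mem' := by
    intro s hs
    have hpow : ∀ n : ℕ, ∃ g ∈ M, (g : M3) *ᵥ v = ((s ^ n).1 0 0 : F) • v + ((s ^ n).1 1 0 : F) • w' ∧
        (g : M3) *ᵥ w' = ((s ^ n).1 0 1 : F) • v + ((s ^ n).1 1 1 : F) • w' ∧
        ∀ x, stdHerm σ 3 v x = 0 → stdHerm σ 3 w x = 0 → (g : M3) *ᵥ x = x := by
      intro n
      induction n with
      | zero => exact ⟨1, one_mem M, by simp, by simp, fun x _ _ => by simp⟩
      | succ n ih =>
        obtain ⟨g, hg, e1, e2, e3⟩ := ih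
        obtain ⟨g', hg', f1, f2, f3⟩ := hs
        refine ⟨g * g', mul_mem hg hg', ?_, ?_, fun x hx hx' => by
          rw [Units.val_mul, ← mulVec_mulVec, f3 x hx hx', e3 x hx hx']⟩
        · rw [Units.val_mul, ← mulVec_mulVec, f1, mulVec_add, mulVec_smul, mulVec_smul, e1, e2, pow_succ]
          simp only [Matrix.SpecialLinearGroup.coe_mul, Matrix.mul_apply, Fin.sum_univ_two]
          push_cast
          module
        · rw [Units.val_mul, ← mulVec_mulVec, f2, mulVec_add, mulVec_smul, mulVec_smul, e1, e2, pow_succ]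
          simp only [Matrix.SpecialLinearGroup.coe_mul, Matrix.mul_apply, Fin.sum_univ_two]
          push_cast
          module
    show s⁻¹ ∈ {s | _}
    rw [inv_eq_of_mul_eq_one_left (a := s ^ (orderOf s - 1)) (b := s) (by
      rw [← pow_succ, Nat.sub_add_cancel (orderOf_pos s), pow_orderOf_eq_one])]
    exact hpow _

variable (hc : IsConjugation σ) {M : Subgroup (GL (Fin 3) F)} {v w : Fin 3 → F} (hv : stdHerm σ 3 v v = 0)
  (hw : stdHerm σ 3 w w = 0) (hvw : stdHerm σ 3 v w ≠ 0) {d : F} (hd : d ≠ 0) {L : Subfield F}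
include hc hv hw hvw hd

theorem up_mem {c : F} {x : L} (hx : (x : F) = c * (d * (B v w * σ (B v w)))) (hmem : uTr σ v hv c ∈ M) :
    Dickson.upT x ∈ realS σ M v w ((d * σ (B v w)) • w) L := by
  refine ⟨_, hmem, ?_, ?_, fun y hy _ => ?_⟩
  · rw [uTr_mulVec, hv]; simp [Dickson.upT]
  · rw [uTr_mulVec, map_smul, smul_eq_mul]
    simp [Dickson.upT, hx]
    module
  · rw [uTr_mulVec, hy, mul_zero, zero_smul, add_zero]

theorem low_mem {c : F} {b : L} (hb : (b : F) * d = c) (hmem : uTr σ w hw c ∈ M) :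
    low b ∈ realS σ M v w ((d * σ (B v w)) • w) L := by
  refine ⟨_, hmem, ?_, ?_, fun y _ hy => ?_⟩
  · rw [uTr_mulVec, ← (stdHerm_isHermitian hc 3).symm v w]
    simp [low, ← hb, smul_smul]
    module
  · rw [uTr_mulVec, map_smul, hw]; simp [low]
  · rw [uTr_mulVec, hy, mul_zero, zero_smul, add_zero]

theorem of_up {x : L} (h : Dickson.upT x ∈ realS σ M v w ((d * σ (B v w)) • w) L) :
    uTr σ v hv ((x : F) / (d * (B v w * σ (B v w)))) ∈ M := by
  obtain ⟨g, hg, e1, e2, e3⟩ := h
  have hh := stdHerm_isHermitian hc 3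
  set δ := B v w with hδ
  have hσ : σ δ ≠ 0 := (map_ne_zero σ).2 hvw
  convert hg using 1
  refine Units.ext (Matrix.ext_iff_mulVec.2 fun y => ?_)
  set α := B w y / σ δ
  set β := B v y / δ
  set r := y - α • v - β • w with hr
  have hr1 : B v r = 0 := by
    rw [hr, map_sub, map_sub, map_smul, map_smul, hv, ← hδ, smul_zero, sub_zero, smul_eq_mul]
    simp only [β]
    rw [div_mul_cancel₀ _ hvw, sub_self]
  have hr2 : B w r = 0 := by
    rw [hr, map_sub, map_sub, map_smul, map_smul, hw, ← hh.symm v w, ← hδ, smul_zero, sub_zero, smul_eq_mul]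
    simp only [α]
    rw [div_mul_cancel₀ _ hσ, sub_self]
  have hgw : (g : M3) *ᵥ w = w + ((x : F) / (d * σ δ)) • v := by
    have hne : d * σ δ ≠ 0 := mul_ne_zero hd hσ
    simp [Dickson.upT, mulVec_smul] at e2
    refine smul_right_injective (Fin 3 → F) hne ?_
    simp only
    rw [e2, smul_add, smul_smul, mul_div_cancel₀ _ hne]
    module
  have hgv : (g : M3) *ᵥ v = v := by simpa [Dickson.upT] using e1
  rw [show y = α • v + β • w + r by rw [hr]; abel]
  simp only [mulVec_add, mulVec_smul, uTr_mulVec, hgv, hgw, e3 r hr1 hr2, map_add, map_smul, hr1, hv, ← hδ,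
    smul_eq_mul, mul_zero, zero_add, add_zero]
  match_scalars <;> field_simp <;> ring

/-- Odd characteristic: two transvections give a third at the same centre, unless `|k(l)| = 9` and `l² = -1`. -/
theorem pair_odd (h2 : (2 : F) ≠ 0) {c : F} (hcM : uTr σ v hv c ∈ M) (hdM : uTr σ w hw d ∈ M) (hc0 : c ≠ 0)
    {l : F} (hl : l = c * (d * (B v w * σ (B v w)))) :
    uTr σ v hv (c * l) ∈ M ∨ (l ^ 2 = -1 ∧ l ^ 9 = l ∧ ringChar F = 3) := by
  classical
  set N := B v w * σ (B v w)
  have hN : N ≠ 0 := mul_ne_zero hvw ((map_ne_zero σ).2 hvw)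
  have hl0 : l ≠ 0 := hl ▸ mul_ne_zero hc0 (mul_ne_zero hd hN)
  set L := Subfield.closure ({l} : Set F) with hL
  haveI := Fintype.ofFinite L
  obtain ⟨p, hp⟩ := CharP.exists F
  haveI : Fact p.Prime := ⟨CharP.char_is_prime F p⟩
  haveI : CharP L p := (RingHom.charP_iff L.subtype L.subtype.injective p).2 inferInstance
  let lL : L := ⟨l, Subfield.subset_closure rfl⟩
  have h2L : (2 : L) ≠ 0 := fun e => h2 (by simpa [map_ofNat] using congrArg L.subtype e)
  have hgen : Subfield.closure ({lL} : Set L) = ⊤ := by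
    refine eq_top_iff.2 fun y _ => ?_
    obtain ⟨y', hy', e⟩ := ((Subfield.closure_le (s := ({l} : Set F))
      (t := (Subfield.closure ({lL} : Set L)).map L.subtype)).2 (by
        rintro _ rfl
        exact ⟨lL, Subfield.subset_closure rfl, rfl⟩)) y.2
    rwa [show y = y' from Subtype.ext e.symm]
  have hgens : Subgroup.closure ({Dickson.lowT, Dickson.upT lL} : Set SL(2, L)) ≤
      realS σ M v w ((d * σ (B v w)) • w) L := by
    rw [Subgroup.closure_le]
    rintro s (rfl | rfl)
    · rw [show (Dickson.lowT : SL(2, L)) = low 1 from rfl]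
      exact low_mem hc hv hw hvw hd (by simp) hdM
    · exact up_mem hc hv hw hvw hd hl hcM
  rcases Dickson.closure_transvections p h2L (fun e => hl0 (congrArg Subtype.val e)) hgen with
    ⟨e, -⟩ | ⟨h9, hl2, -⟩
  · left
    have hm : Dickson.upT (lL * lL) ∈ realS σ M v w ((d * σ (B v w)) • w) L :=
      hgens (e ▸ Subgroup.mem_top _)
    convert of_up hc hv hw hvw hd hm using 2
    push_cast
    rw [eq_div_iff (mul_ne_zero hd hN)]
    show c * l * (d * N) = l * l
    linear_combination -l * hl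
  · right
    refine ⟨by simpa [lL] using congrArg Subtype.val hl2, ?_, ?_⟩
    · have := FiniteField.pow_card lL
      rw [h9] at this
      exact congrArg Subtype.val this
    · obtain ⟨m, -, hm⟩ := FiniteField.card L p
      rw [ringChar.eq F p]
      exact (Nat.prime_dvd_prime_iff_eq (Fact.out : p.Prime) Nat.prime_three).1
        ((Fact.out : p.Prime).dvd_of_dvd_pow (n := 2) (by
          rw [show (3 : ℕ) ^ 2 = Fintype.card L from h9.symm, hm]; exact dvd_pow_self p m.ne_zero))

/-- Characteristic two: equal groups of at least four transvections form a line over a subfield. -/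
theorem pair_even (h2 : (2 : F) = 0) {A : AddSubgroup F} (hA : ∀ a ∈ A, a + σ a = 0)
    (hAv : ∀ a, a ∈ A ↔ uTr σ v hv a ∈ M) (hAw : ∀ a ∈ A, uTr σ w hw a ∈ M) (hdA : d ∈ A)
    (h4 : 4 ≤ Nat.card A) {l : F} (hl : l = d * (d * (B v w * σ (B v w)))) : ∀ a ∈ A, l * a ∈ A := by
  classical
  have hh := stdHerm_isHermitian hc 3
  set N := B v w * σ (B v w) with hN'
  have hN : N ≠ 0 := mul_ne_zero hvw ((map_ne_zero σ).2 hvw)
  haveI : CharP F 2 := CharTwo.of_one_ne_zero_of_two_eq_zero one_ne_zero h2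
  set k := SUUnipotent.fixedField σ with hk
  haveI := Fintype.ofFinite k
  haveI : CharP k 2 := (RingHom.charP_iff k.subtype k.subtype.injective 2).2 inferInstance
  haveI : Fact (Nat.Prime 2) := ⟨Nat.prime_two⟩
  have hfix : ∀ a ∈ A, σ a = a := fun a ha => by
    have := hA a ha
    rw [CharTwo.add_eq_zero] at this
    exact this.symm
  have hNfix : σ N = N := by rw [hN', map_mul, hc.invol, mul_comm]
  set S := realS σ M v w ((d * σ (B v w)) • w) k with hS
  let up : A → SL(2, k) := fun a => Dickson.upT ⟨(a : F) * (d * N), by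
    show σ _ = _
    rw [map_mul, map_mul, hfix _ a.2, hfix _ hdA, hNfix]; rfl⟩
  let dn : A → SL(2, k) := fun a => low ⟨(a : F) / d, by
    show σ _ = _
    rw [map_div₀, hfix _ a.2, hfix _ hdA]; rfl⟩
  set H := Subgroup.closure (Set.range up ∪ Set.range dn) with hH
  have hHS : H ≤ S := by
    rw [hH, Subgroup.closure_le]
    rintro s (⟨a, rfl⟩ | ⟨a, rfl⟩)
    · exact up_mem hc hv hw hvw hd rfl ((hAv _).1 a.2)
    · exact low_mem hc hv hw hvw hd (div_mul_cancel₀ _ hd) (hAw _ a.2)
  set G := H.map (SpecialLinearGroup.toPGL (n := Fin 2) (R := k)) with hG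
  have hinj : Function.Injective (SpecialLinearGroup.toPGL (n := Fin 2) (R := k)) := by
    rw [injective_iff_map_eq_one]
    intro s hs
    rcases Dickson.sl_scalar_of_toPGL_one hs with e | e
    · exact e
    · rw [e]
      refine Subtype.ext (Matrix.ext fun i j => ?_)
      rw [SpecialLinearGroup.coe_neg, Matrix.neg_apply, CharTwo.neg_eq]
  let a₀ : A := ⟨d, hdA⟩
  have hupG : ∀ a, SpecialLinearGroup.toPGL (up a) ∈ G := fun a =>
    ⟨_, Subgroup.subset_closure (Or.inl ⟨a, rfl⟩), rfl⟩
  have hdnG : ∀ a, SpecialLinearGroup.toPGL (dn a) ∈ G := fun a =>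
    ⟨_, Subgroup.subset_closure (Or.inr ⟨a, rfl⟩), rfl⟩
  have hup1 : ∀ a : A, a ≠ 0 → SpecialLinearGroup.toPGL (up a) ≠ 1 := fun a ha =>
    Dickson.toPGL_ne_one_of (Or.inr (by
      intro e
      have h := congrArg (fun x : k => (x : F)) e
      simp [up, Dickson.upT, hd, hN] at h
      exact ha h))
  have ha0 : a₀ ≠ 0 := fun e => hd (congrArg Subtype.val e)
  have hdn1 : SpecialLinearGroup.toPGL (dn a₀) ≠ 1 :=
    Dickson.toPGL_ne_one_of (Or.inl (by simp [dn, low, Subtype.ext_iff, hd, a₀]))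
  have hpow : ∀ s : SL(2, k), s.1 0 0 = 1 → s.1 1 1 = 1 → (s.1 0 1 = 0 ∨ s.1 1 0 = 0) →
      SpecialLinearGroup.toPGL s ^ 2 = 1 := by
    intro s e0 e1 e
    rw [← map_pow, show s ^ 2 = 1 from sl2_pow_char 2 s (by
      rw [det_fin_two, Matrix.sub_apply, Matrix.sub_apply, Matrix.sub_apply, Matrix.sub_apply, e0, e1]
      rcases e with e | e <;> simp [e]), map_one]
  have hnofix : ∀ x : OnePoint k, (∀ g ∈ G, g • x = x) → False := by
    intro x hx
    have hi : SpecialLinearGroup.toPGL (up a₀) • (OnePoint.infty : OnePoint k) = OnePoint.infty := by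
      show ProjGenLinGroup.mk _ • (OnePoint.infty : OnePoint k) = _
      rw [Dickson.mk_smul, OnePoint.smul_infty_eq_self_iff]
      simp [up, Dickson.upT, SpecialLinearGroup.toGL]
    have h1 := Dickson.fix_of_unip 2 (hup1 _ ha0) (hpow _ rfl rfl (Or.inr rfl)) hi (hx _ (hupG a₀))
    subst h1
    have h3 := hx _ (hdnG a₀)
    change ProjGenLinGroup.mk _ • (OnePoint.infty : OnePoint k) = _ at h3
    rw [Dickson.mk_smul, OnePoint.smul_infty_eq_self_iff] at h3
    simp [dn, low, SpecialLinearGroup.toGL, Subtype.ext_iff, hd, a₀] at h3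
  have hcomm : ∀ a b, Commute (SpecialLinearGroup.toPGL (up a)) (SpecialLinearGroup.toPGL (up b)) := fun a b => by
    refine (show Commute (up a) (up b) from ?_).map _
    refine Subtype.ext ?_
    ext i j
    fin_cases i <;> fin_cases j <;> simp [up, Dickson.upT, Matrix.mul_apply, Fin.sum_univ_two] <;> ring
  have hupinj : Function.Injective fun a => (⟨_, hupG a⟩ : G) := fun a b e => by
    have := congrArg (fun s : SL(2, k) => ((s.1 0 1 : k) : F)) (hinj (congrArg Subtype.val e))
    simp [up, Dickson.upT, hd, hN] at this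
    exact this
  -- the subfield
  obtain ⟨K, h, hK⟩ : ∃ (K : Subfield k) (h : ProjGenLinGroup (Fin 2) k),
      G.map (MulAut.conj h).toMonoidHom = Dickson.ratPGL K := by
    rcases Dickson.kind 2 G with ⟨x, hx⟩ | ⟨c, hcG, -⟩ | ⟨c, hcG, hodd, -, ⟨f⟩⟩ | ⟨⟨f⟩⟩ | ⟨⟨f⟩⟩ | ⟨⟨f⟩⟩ |
      ⟨K, h, hK⟩ | ⟨K, hKodd, h, hK⟩
    · exact (hnofix x hx).elim
    · exfalso
      obtain ⟨i, hi⟩ := Subgroup.mem_zpowers_iff.1 (hcG ▸ hupG a₀)
      obtain ⟨j, hj⟩ := Subgroup.mem_zpowers_iff.1 (hcG ▸ hdnG a₀)
      have hco : Commute (up a₀) (dn a₀) := by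
        refine hinj ?_
        rw [map_mul, map_mul, ← hi, ← hj]
        exact ((Commute.refl c).zpow_zpow i j).eq
      have := congrArg (fun s : SL(2, k) => ((s.1 0 0 : k) : F)) hco.eq
      simp [up, dn, low, Dickson.upT, Matrix.mul_apply, Fin.sum_univ_two, a₀, hd, hN] at this
    · exfalso
      let ι : A → G := fun a => ⟨_, hupG a⟩
      have hmul : ∀ a b : A, ι (a + b) = ι a * ι b := fun a b => Subtype.ext (by
        show SpecialLinearGroup.toPGL (up (a + b)) = SpecialLinearGroup.toPGL (up a) * SpecialLinearGroup.toPGL (up b)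
        rw [← map_mul]
        refine congrArg _ (Subtype.ext ?_)
        ext i j
        fin_cases i <;> fin_cases j <;> simp [up, Dickson.upT, Matrix.mul_apply, Fin.sum_univ_two] <;> ring)
      let φ : Multiplicative A →* G := MonoidHom.mk' (fun a => ι a.toAdd) fun a b => hmul _ _
      have hφ : Function.Injective φ := fun a b e => Multiplicative.toAdd.injective (hupinj e)
      have hdvd := Subgroup.card_dvd_of_injective φ hφ
      rw [Nat.card_congr Multiplicative.toAdd, Nat.card_congr f.toEquiv, DihedralGroup.nat_card] at hdvd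
      obtain ⟨n, hn⟩ : ∃ n, Nat.card A = 2 ^ n := by
        obtain ⟨m, -, hm⟩ := FiniteField.card F 2
        have h := AddSubgroup.card_addSubgroup_dvd_card A
        rw [Nat.card_eq_fintype_card (α := F), hm] at h
        obtain ⟨n, -, hn⟩ := (Nat.dvd_prime_pow Nat.prime_two).1 h
        exact ⟨n, hn⟩
      have hn2 : 2 ≤ n := by
        by_contra hlt
        rw [hn] at h4
        interval_cases n <;> omega
      have h4' : 2 * 2 ∣ 2 * orderOf c :=
        (show 2 * 2 ∣ Nat.card A from hn ▸ (Nat.pow_dvd_pow 2 hn2)).trans hdvd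
      exact hodd (Nat.dvd_of_mul_dvd_mul_left two_pos h4')
    · obtain ⟨x, hx⟩ := Dickson.fixed_of_four (M := G) 2 rfl
        ((alternatingGroup (Fin 4)).subtype.comp f.toMonoidHom)
        (Subtype.val_injective.comp f.injective) fun x hx => ⟨f.symm ⟨x, hx⟩, by simp⟩
      exact (hnofix x hx).elim
    · obtain ⟨x, hx⟩ := Dickson.fixed_of_four (M := G) 2 rfl f.toMonoidHom f.injective
        fun x _ => ⟨f.symm x, by simp⟩
      exact (hnofix x hx).elim
    · obtain ⟨K, h, -, hK⟩ := Dickson.a5_char_two 2 rfl f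
      exact ⟨K, h, hK⟩
    · exact ⟨K, h, hK⟩
    · exfalso
      haveI := Fintype.ofFinite K
      haveI : CharP K 2 := (RingHom.charP_iff K.subtype K.subtype.injective 2).2 inferInstance
      obtain ⟨m, -, hm⟩ := FiniteField.card K 2
      rw [Nat.card_eq_fintype_card, hm] at hKodd
      simp [Nat.pow_mod, m.ne_zero] at hKodd
  -- squares of traces lie in the subfield
  have htr : ∀ a b : A, (⟨(a : F) * N * b, by
      show σ _ = _
      rw [map_mul, map_mul, hfix _ a.2, hfix _ b.2, hNfix]; rfl⟩ : k) ∈ K := by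
    intro a b
    have hg := mul_mem (hupG a) (hdnG b)
    rw [← map_mul] at hg
    have hm := Dickson.tinv_mem (hK.le ⟨_, hg, rfl⟩)
    simp only [MulEquiv.coe_toMonoidHom, Dickson.tinv_conj] at hm
    change Dickson.tinv (ProjGenLinGroup.mk (SpecialLinearGroup.toGL (up a * dn b))) ∈ K at hm
    rw [Dickson.tinv_mk] at hm
    set x : k := ⟨(a : F) * N * b, _⟩
    have hx : ((SpecialLinearGroup.toGL (up a * dn b) : GL (Fin 2) k) : Matrix (Fin 2) (Fin 2) k).trace ^ 2 /
        ((SpecialLinearGroup.toGL (up a * dn b) : GL (Fin 2) k) : Matrix (Fin 2) (Fin 2) k).det = x ^ 2 := by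
      simp [SpecialLinearGroup.toGL, trace_fin_two, Matrix.mul_apply, Fin.sum_univ_two, up, dn, low, Dickson.upT]
      apply Subtype.ext
      simp [x]
      field_simp
      grind
    rw [hx] at hm
    haveI := Fintype.ofFinite K
    haveI : CharP K 2 := (RingHom.charP_iff K.subtype K.subtype.injective 2).2 inferInstance
    obtain ⟨y, hy⟩ := (bijective_frobenius K 2).2 ⟨x ^ 2, hm⟩
    have e : ((y : K) : k) ^ 2 = x ^ 2 := congrArg Subtype.val hy
    rw [← CharTwo.sq_injective (R := k) |>.eq_iff.1 e]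
    exact y.2
  let lk : k := ⟨l, by
    show σ l = l
    rw [hl, map_mul, map_mul, hfix _ hdA, hNfix]⟩
  have hlK : lk ∈ K := by
    convert htr a₀ a₀ using 1
    exact Subtype.ext (by show l = d * N * d; rw [hl]; ring)
  have hlk0 : lk ≠ 0 := fun e => by
    have : l = 0 := congrArg Subtype.val e
    rw [hl] at this
    exact mul_ne_zero hd (mul_ne_zero hd hN) this
  -- so the whole group is rational
  have hupK : ∀ a : A, ((up a).1 0 1 : k) ∈ K := fun a => by
    convert htr a a₀ using 1
    exact Subtype.ext (by simp [up, Dickson.upT, a₀]; ring)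
  have hdnK : ∀ a : A, ((dn a).1 1 0 : k) ∈ K := fun a => by
    convert div_mem (htr a a₀) hlK using 1
    exact Subtype.ext (by simp [dn, low, a₀, lk, hl]; field_simp)
  have hle : G ≤ Dickson.ratPGL K := by
    rw [hG, Subgroup.map_le_iff_le_comap, hH, Subgroup.closure_le]
    rintro _ (⟨a, rfl⟩ | ⟨a, rfl⟩)
    · refine Dickson.mk_mem_ratPGL fun i j => ?_
      have := hupK a
      fin_cases i <;> fin_cases j <;>
        first | exact this | simp [SpecialLinearGroup.toGL, up, Dickson.upT]
    · refine Dickson.mk_mem_ratPGL fun i j => ?_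
      have := hdnK a
      fin_cases i <;> fin_cases j <;>
        first | exact this | simp [SpecialLinearGroup.toGL, dn, low]
  have hGK : G = Dickson.ratPGL K := by
    refine Subgroup.eq_of_le_of_card_ge hle ?_
    rw [← hK, Subgroup.card_map_of_injective (MulAut.conj h).injective]
  intro a ha
  -- `u (λ a)` is rational
  set x : k := lk * ⟨a * (d * N), by show σ _ = _; rw [map_mul, map_mul, hfix _ ha, hfix _ hdA, hNfix]; rfl⟩ with hxdef
  have hxK : x ∈ K := mul_mem hlK (hupK ⟨a, ha⟩)
  obtain ⟨s, hs, e⟩ : SpecialLinearGroup.toPGL (Dickson.upT x) ∈ G := hGK.symm ▸ Dickson.mk_mem_ratPGL fun i j => by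
    fin_cases i <;> fin_cases j <;> simp [SpecialLinearGroup.toGL, Dickson.upT, hxK]
  rw [hinj e] at hs
  have hu := of_up hc hv hw hvw hd (hHS hs)
  rw [hxdef] at hu
  push_cast at hu
  rw [hAv]
  convert hu using 2
  show l * a = l * (a * (d * N)) / (d * N)
  rw [← mul_assoc, mul_div_cancel_right₀ _ (mul_ne_zero hd hN)]

end CfsgLib.Classical.GeoThree.SU.Singer
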