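import Cfsg.Agent.Lib.Classical.GeoThree.SU.Singer.Torus
import Cfsg.Agent.Lib.Classical.GeoThree.SU.Singer.Pair
import Cfsg.Agent.Lib.Classical.GeoThree.SU.Singer.Chars
import Cfsg.Agent.Lib.Involution.ZStar.Main

/-!
# A transvection over the unitary Singer torus gives `SU₃`

The multipliers of a group of transvections form a field containing all the scaled norms along a torus
orbit, so it is the whole fixed field.  In characteristic two a group of order two is excluded by the `Z*`
theorem.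
-/

set_option autoImplicit false
set_option linter.unusedSectionVars false
set_option linter.style.haveILetI false
set_option backward.isDefEq.respectTransparency false

open Matrix Module

namespace CfsgLib.Classical.GeoThree.SU.Singer

open CfsgLib.Classical
open Cfsg.Geo (specialLinear subalgebraNormalizer scalars mem_scalars_iff)

variable {F K : Type*} [Field F] [Fintype F] [Field K] [Finite K] [Algebra F K] {q : ℕ} {σ : F →+* F}

local notation "M3" => Matrix (Fin 3) (Fin 3) F
local notation "G3" => GL (Fin 3) F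
local notation "B" => stdHerm σ 3

theorem uTr_mul {v : Fin 3 → F} (hv : stdHerm σ 3 v v = 0) (a b : F) :
    uTr σ v hv a * uTr σ v hv b = uTr σ v hv (a + b) := by
  refine Units.ext (Matrix.ext_iff_mulVec.2 fun x => ?_)
  rw [Units.val_mul, ← mulVec_mulVec, uTr_mulVec, uTr_mulVec, uTr_mulVec, map_add, map_smul, hv, smul_eq_mul,
    mul_zero, add_zero, add_mul, add_smul]
  abel

theorem uTr_zero {v : Fin 3 → F} (hv : stdHerm σ 3 v v = 0) : uTr σ v hv 0 = 1 :=
  Units.ext (Matrix.ext_iff_mulVec.2 fun x => by rw [uTr_mulVec]; simp)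

theorem uTr_inv {v : Fin 3 → F} (hv : stdHerm σ 3 v v = 0) (a : F) :
    (uTr σ v hv a)⁻¹ = uTr σ v hv (-a) :=
  inv_eq_of_mul_eq_one_right (by rw [uTr_mul, add_neg_cancel, uTr_zero])

theorem gu_isotropic (hσ : ∀ x, σ x = x ^ q) {g : G3} (hg : g ∈ Cfsg.GU 3 F q) {v : Fin 3 → F}
    (hv : stdHerm σ 3 v v = 0) : stdHerm σ 3 ((g : M3) *ᵥ v) ((g : M3) *ᵥ v) = 0 := by
  rw [(mem_GU_iff hσ).1 hg, hv]

theorem uTr_conj (hσ : ∀ x, σ x = x ^ q) {g : G3} (hg : g ∈ Cfsg.GU 3 F q) {v : Fin 3 → F}
    (hv : stdHerm σ 3 v v = 0) (c : F) :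
    g * uTr σ v hv c * g⁻¹ = uTr σ ((g : M3) *ᵥ v) (gu_isotropic hσ hg hv) c := by
  refine Units.ext (Matrix.ext_iff_mulVec.2 fun x => ?_)
  rw [Units.val_mul, Units.val_mul, ← mulVec_mulVec, ← mulVec_mulVec, uTr_mulVec, uTr_mulVec, mulVec_add,
    mulVec_smul, mulVec_mulVec, ← Units.val_mul, mul_inv_cancel, Units.val_one, one_mulVec]
  congr 2
  rw [← (mem_GU_iff hσ).1 hg v, mulVec_mulVec _ (g : M3), ← Units.val_mul, mul_inv_cancel, Units.val_one,
    one_mulVec]

/-- The scalars of the transvections of `M` at one centre. -/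
def axisSet (σ : F →+* F) (M : Subgroup (GL (Fin 3) F)) (v : Fin 3 → F) (hv : stdHerm σ 3 v v = 0) :
    AddSubgroup F where
  carrier := {c | c + σ c = 0 ∧ uTr σ v hv c ∈ M}
  zero_mem' := ⟨by simp, by rw [uTr_zero]; exact one_mem M⟩
  add_mem' := fun {a b} ha hb => ⟨by rw [map_add]; linear_combination ha.1 + hb.1, by
    rw [← uTr_mul]; exact mul_mem ha.2 hb.2⟩
  neg_mem' := fun {a} ha => ⟨by rw [map_neg]; linear_combination -ha.1, by
    rw [← uTr_inv]; exact inv_mem ha.2⟩

theorem orth_of_commute (hc : IsConjugation σ) {v w : Fin 3 → F} (hv : stdHerm σ 3 v v = 0)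
    (hw : stdHerm σ 3 w w = 0) (hw0 : w ≠ 0) {c : F} (hc0 : c ≠ 0)
    (h : uTr σ v hv c * uTr σ w hw c = uTr σ w hw c * uTr σ v hv c) : stdHerm σ 3 v w = 0 := by
  by_contra hne
  have e := congrArg (fun X : G3 => (X : M3) *ᵥ w) h
  simp only [Units.val_mul, ← mulVec_mulVec, uTr_mulVec, hw, mul_zero, zero_smul, add_zero, map_add, map_smul,
    smul_eq_mul, zero_add] at e
  rw [← (stdHerm_isHermitian hc 3).symm v w, left_eq_add, smul_eq_zero] at e
  exact e.elim (mul_ne_zero hc0 (mul_ne_zero (mul_ne_zero hc0 hne) ((map_ne_zero σ).2 hne))) hw0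

variable (S : Torus F K q σ)
include S

/-- A transvection does not normalise the field. -/
theorem Torus.transv_not_normalizer (hq : 4 ≤ q) (h5 : q ≠ 5) {v f : Fin 3 → F} {hperp : f ⬝ᵥ v = 0}
    (hv : v ≠ 0) (hf : f ≠ 0) : trGL v f hperp ∉ subalgebraNormalizer S.D.ρ.range := by
  intro hn
  obtain ⟨r, k, hr, hr5, -, -, hns⟩ := S.exists_prime_element hq h5
  have hns1 : ∀ μ : F, (k : K) ≠ μ • 1 := by
    simpa using hns 1 fun h => by have := Nat.le_of_dvd one_pos h; omega
  set g := trGL v f hperp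
  obtain ⟨k', hk'⟩ : (g : M3) * S.D.ρ k * ((g⁻¹ : G3) : M3) ∈ S.D.ρ.range := (hn _).1 ⟨k, rfl⟩
  -- a point of the axis mapped into the axis
  obtain ⟨x, hx0, hx1, hx2⟩ : ∃ x : Fin 3 → F, x ≠ 0 ∧ f ⬝ᵥ x = 0 ∧ f ⬝ᵥ (S.D.ρ k *ᵥ x) = 0 := by
    let φ : (Fin 3 → F) →ₗ[F] F × F :=
      { toFun := fun x => (f ⬝ᵥ x, f ⬝ᵥ (S.D.ρ k *ᵥ x))
        map_add' := fun a b => by simp [dotProduct_add, mulVec_add]
        map_smul' := fun c a => by simp [dotProduct_smul, mulVec_smul] }
    have hker : LinearMap.ker φ ≠ ⊥ := fun e => by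
      have h1 := LinearMap.finrank_range_add_finrank_ker φ
      rw [e, finrank_bot, finrank_fin_fun] at h1
      have h2 := Submodule.finrank_le (LinearMap.range φ)
      rw [Module.finrank_prod, finrank_self] at h2
      omega
    obtain ⟨x, hx, hx0⟩ := Submodule.exists_mem_ne_zero_of_ne_bot hker
    exact ⟨x, hx0, (Prod.mk.inj hx).1, (Prod.mk.inj hx).2⟩
  have hgx : ∀ y, f ⬝ᵥ y = 0 → (g : M3) *ᵥ y = y := fun y hy => by rw [trGL_mulVec, hy, zero_smul, add_zero]
  obtain ⟨y, rfl⟩ := S.D.Φ.surjective x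
  have hy : y ≠ 0 := fun e => hx0 (by rw [e, map_zero])
  have hk : k' = (k : K) := by
    refine mul_right_cancel₀ hy (S.D.Φ.injective ?_)
    rw [← S.D.act, ← S.D.act]
    calc S.D.ρ k' *ᵥ S.D.Φ y = S.D.ρ k' *ᵥ ((g : M3) *ᵥ S.D.Φ y) := by rw [hgx _ hx1]
      _ = (g : M3) *ᵥ (S.D.ρ k *ᵥ S.D.Φ y) := by
        rw [show S.D.ρ k' = (g : M3) * S.D.ρ k * ((g⁻¹ : G3) : M3) from hk']
        simp only [mulVec_mulVec, mul_assoc, Units.inv_mul, mul_one]
      _ = _ := hgx _ hx2
  subst hk
  obtain ⟨a, ha⟩ := S.D.mem_range_of_comm S.dim hns1 (A := (g : M3)) (by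
    have h := congrArg (fun X => X * (g : M3)) (show S.D.ρ k = (g : M3) * S.D.ρ k * ((g⁻¹ : G3) : M3) from hk')
    simp only [mul_assoc, Units.inv_mul, mul_one] at h
    exact h.symm)
  have ha1 : a = 1 := by
    refine mul_right_cancel₀ hy (S.D.Φ.injective ?_)
    rw [one_mul, ← S.D.act]
    conv_rhs => rw [← hgx _ hx1, ← show S.D.ρ a = (g : M3) from ha]
  subst ha1
  obtain ⟨i, hi⟩ := Function.ne_iff.1 hf
  have h := trGL_mulVec v f hperp (Pi.single i 1)
  rw [show ((g : G3) : M3) = 1 by rw [← show S.D.ρ 1 = (g : M3) from ha, map_one], one_mulVec, dotProduct_single,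
    mul_one, left_eq_add, smul_eq_zero] at h
  exact h.elim hi hv

theorem Torus.uTr_not_normalizer (hq : 4 ≤ q) (h5 : q ≠ 5) {v : Fin 3 → F} (hv0 : v ≠ 0)
    (hv : stdHerm σ 3 v v = 0) {c : F} (hc : c ≠ 0) : uTr σ v hv c ∉ subalgebraNormalizer S.D.ρ.range := by
  refine S.transv_not_normalizer hq h5 (smul_ne_zero hc hv0) fun e => hv0 (funext fun i => ?_)
  exact (map_eq_zero σ).1 (congrFun e i)

theorem Torus.toGL_inj {a b : Kˣ} (h : S.D.toGL a = S.D.toGL b) : a = b :=
  Units.map_injective S.D.ρ_injective h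

variable {M : Subgroup (GL (Fin 3) F)}
  (hT : ∀ k ∈ S.T, S.D.toGL k ∈ M) (hMs : M ≤ Cfsg.GU 3 F q ⊓ specialLinear (Fin 3) F)
include hT hMs

/-- In characteristic two a transvection group of order two is impossible. -/
theorem Torus.no_isolated (hq : 4 ≤ q) (h5 : q ≠ 5) (h2 : (2 : F) = 0) {v : Fin 3 → F} (hv0 : v ≠ 0)
    {hv : stdHerm σ 3 v v = 0} {c : F} (hc : c ∈ axisSet σ M v hv) (hc0 : c ≠ 0)
    (hsmall : ∀ a ∈ axisSet σ M v hv, a = 0 ∨ a = c) : False := by
  classical
  haveI : CharP F 2 := CharTwo.of_one_ne_zero_of_two_eq_zero one_ne_zero h2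
  have hMU : M ≤ Cfsg.GU 3 F q := hMs.trans inf_le_left
  have hh := stdHerm_isHermitian S.conj 3
  set t : M := ⟨uTr σ v hv c, hc.2⟩ with ht
  have ht1 : uTr σ v hv c ≠ 1 := fun e => S.uTr_not_normalizer hq h5 hv0 hv hc0 (e ▸ one_mem _)
  have hiso : Cfsg.IsIsolatedInvolution t := by
    refine ⟨orderOf_eq_prime ?_ fun e => ht1 (congrArg Subtype.val e), fun g hcom => ?_⟩
    · refine Subtype.ext ?_
      rw [pow_two, Subgroup.coe_mul, uTr_mul, CharTwo.add_self_eq_zero, uTr_zero]; rfl
    refine Subtype.ext ?_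
    simp only [Subgroup.coe_mul, Subgroup.coe_inv, ht]
    have e := congrArg Subtype.val hcom.eq
    simp only [Subgroup.coe_mul, Subgroup.coe_inv, ht] at e
    rw [uTr_conj S.frob (hMU g.2)] at e ⊢
    set w := ((g : G3) : M3) *ᵥ v with hw
    have hw0 : w ≠ 0 := fun e0 => hv0 (by
      have := congrArg (fun y => (((g : G3)⁻¹ : G3) : M3) *ᵥ y) e0
      simpa [hw, mulVec_mulVec, ← Units.val_mul] using this)
    have hww : stdHerm σ 3 w w = 0 := gu_isotropic S.frob (hMU g.2) hv
    have hvw : B v w = 0 := orth_of_commute S.conj hv hww hw0 hc0 e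
    obtain ⟨a, ha⟩ : ∃ a : F, a • v = w := by
      by_contra hne
      push Not at hne
      exact hh.not_orth_three (stdHerm_sepRight 3) (finrank_fin_fun F) hv hww
        ((LinearIndependent.pair_iff' hv0).2 hne) hvw
    have heq : uTr σ w hww c = uTr σ v hv (a * σ a * c) := Units.ext (Matrix.ext_iff_mulVec.2 fun y => by
      rw [uTr_mulVec, uTr_mulVec, ← ha, map_smulₛₗ, LinearMap.smul_apply, smul_eq_mul, smul_smul]
      congr 2
      ring)
    have hmem : a * σ a * c ∈ axisSet σ M v hv := by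
      refine ⟨?_, heq ▸ ?_⟩
      · rw [map_mul, S.conj.norm_fixed]; linear_combination (a * σ a) * hc.1
      · have := mul_mem (mul_mem g.2 hc.2) (inv_mem g.2)
        rwa [uTr_conj S.frob (hMU g.2)] at this
    rcases hsmall _ hmem with h | h
    · exact absurd h (mul_ne_zero (mul_ne_zero (fun e0 => hw0 (by rw [← ha, e0, zero_smul]))
        ((map_ne_zero σ).2 fun e0 => hw0 (by rw [← ha, e0, zero_smul]))) hc0)
    · rw [heq, h]
  set N := (Cfsg.oddCore M).map M.subtype with hN
  have hNM : N ≤ M := Subgroup.map_subtype_le _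
  have hodd : Odd (Nat.card N) := by
    rw [Subgroup.card_map_of_injective M.subtype_injective]
    exact CfsgLib.Involution.ZStar.odd_card_oddCore
  have hNn : ∀ g ∈ M, ∀ x ∈ N, g * x * g⁻¹ ∈ N := by
    rintro g hg _ ⟨x, hx, rfl⟩
    exact ⟨⟨g, hg⟩ * x * ⟨g, hg⟩⁻¹, CfsgLib.Involution.ZStar.oddCore_normal.conj_mem x hx _, rfl⟩
  obtain ⟨r, k, hr, hr5, hk, hord, hns⟩ := S.exists_prime_element hq h5
  have hord' : orderOf (S.D.toGL k) = r := by
    rw [← hord]
    exact orderOf_injective (Units.map (S.D.ρ : K →* M3)) (fun a b h => S.toGL_inj h) k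
  by_cases hNs : N ≤ scalars (Fin 3) F
  · -- the transvection commutes with the torus up to scalars
    obtain ⟨μ, hμ⟩ := (mem_scalars_iff _).1 (hNs (show uTr σ v hv c * S.D.toGL k * (uTr σ v hv c)⁻¹ *
      (S.D.toGL k)⁻¹ ∈ N from ⟨_, CfsgLib.Involution.ZStar.comm_mem_oddCore hiso ⟨_, hT k hk⟩, rfl⟩))
    refine S.uTr_not_normalizer hq h5 hv0 hv hc0 fun A => ?_
    have hk' : (uTr σ v hv c : M3) * S.D.ρ k * (((uTr σ v hv c)⁻¹ : G3) : M3) = μ • S.D.ρ k := by
      have h := congrArg (fun X : M3 => X * (S.D.toGL k : M3)) hμ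
      simp only [Units.val_mul, mul_assoc, Units.inv_mul, mul_one, smul_mul_assoc, one_mul] at h
      simp only [← mul_assoc] at h
      exact h
    have hsub : ∀ X : K, ∃ Y : K, (uTr σ v hv c : M3) * S.D.ρ X * (((uTr σ v hv c)⁻¹ : G3) : M3) = S.D.ρ Y := by
      let A' : Subalgebra F K :=
        { carrier := {X | ∃ Y : K, (uTr σ v hv c : M3) * S.D.ρ X * (((uTr σ v hv c)⁻¹ : G3) : M3) = S.D.ρ Y}
          mul_mem' := by
            rintro X X' ⟨Y, hY⟩ ⟨Y', hY'⟩
            refine ⟨Y * Y', ?_⟩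
            rw [map_mul, map_mul, ← hY, ← hY']
            simp only [mul_assoc]
            rw [← mul_assoc (((uTr σ v hv c)⁻¹ : G3) : M3) (uTr σ v hv c : M3), Units.inv_mul, one_mul]
          add_mem' := by
            rintro X X' ⟨Y, hY⟩ ⟨Y', hY'⟩
            exact ⟨Y + Y', by rw [map_add, map_add, ← hY, ← hY', mul_add, add_mul]⟩
          algebraMap_mem' := fun a => ⟨algebraMap F K a, by
            rw [AlgHom.commutes, ← Algebra.commutes a ((uTr σ v hv c : G3) : M3), mul_assoc, Units.mul_inv,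
              mul_one]⟩ }
      haveI := Subalgebra.isSimpleOrder_of_finrank_prime F K (S.dim ▸ Nat.prime_three)
      have hS : A' = ⊤ := by
        refine (eq_bot_or_eq_top A').resolve_left fun e => ?_
        have hkA : (k : K) ∈ A' := ⟨(μ : F) • (k : K), by rw [map_smul]; exact hk'⟩
        rw [e, Algebra.mem_bot] at hkA
        obtain ⟨a, ha⟩ := hkA
        refine hns 1 (fun h => by have := Nat.le_of_dvd one_pos h; omega) a ?_
        rw [pow_one, ← ha, Algebra.algebraMap_eq_smul_one]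
      intro X
      exact (hS ▸ Algebra.mem_top : X ∈ A')
    refine ⟨fun hA => ?_, fun hA => ?_⟩
    · obtain ⟨X, rfl⟩ := hA
      obtain ⟨Y, hY⟩ := hsub X
      exact ⟨Y, hY.symm⟩
    · obtain ⟨X, hX⟩ := hA
      have hinv : (uTr σ v hv c)⁻¹ = uTr σ v hv c := by rw [uTr_inv, CharTwo.neg_eq]
      obtain ⟨Y, hY⟩ := hsub X
      refine ⟨Y, ?_⟩
      have hX' : S.D.ρ X = _ := hX
      rw [hX', hinv] at hY
      show S.D.ρ Y = A
      rw [← hY]
      have hsq : ((uTr σ v hv c : G3) : M3) * ((uTr σ v hv c : G3) : M3) = 1 := by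
        rw [← Units.val_mul, uTr_mul, CharTwo.add_self_eq_zero, uTr_zero, Units.val_one]
      simp only [mul_assoc, hsq, mul_one]
      rw [← mul_assoc, hsq, one_mul]
  · exact S.uTr_not_normalizer hq h5 hv0 hv hc0 (S.D.le_normalizer_of_normal S.dim
      (S.irreducible hq h5 hT) (hMs.trans inf_le_right) hr hr5 hord' (hT k hk) hns hNM hodd hNn hNs hc.2)

/-- A transvection forces `SU₃`, except possibly for `q = 9`. -/
theorem Torus.su_le_of_transv (hq : 4 ≤ q) (h5 : q ≠ 5) (h9 : q ≠ 9) {v₀ f : Fin 3 → F}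
    {hperp : f ⬝ᵥ v₀ = 0} (hv0 : v₀ ≠ 0) (hf : f ≠ 0) (hmem : trGL v₀ f hperp ∈ M) :
    Cfsg.GU 3 F q ⊓ specialLinear (Fin 3) F ≤ M := by
  classical
  have hMU : M ≤ Cfsg.GU 3 F q := hMs.trans inf_le_left
  have hh := stdHerm_isHermitian S.conj 3
  obtain ⟨hv, c₀, hc0, hcs, rfl⟩ := transv_unitary S.frob S.conj hv0 hf (hMU hmem)
  have hc₀ : c₀ ∈ axisSet σ M v₀ hv := ⟨hcs, by
    convert hmem using 1
    exact Units.ext (Matrix.ext_iff_mulVec.2 fun x => by
      rw [uTr_mulVec, trGL_mulVec, smul_dotProduct, conj_dot, smul_eq_mul])⟩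
  set A := axisSet σ M v₀ hv with hA
  by_contra hnot
  obtain ⟨c₁, hc1, hc1A⟩ : ∃ c, c + σ c = 0 ∧ c ∉ A := by
    by_contra hall
    push Not at hall
    exact hnot (su_le_of_root S.card (by omega) S.frob S.conj (S.irreducible hq h5 hT) hMU hv0 hv
      fun c hc => (hall c hc).2)
  -- the field of multipliers
  set k0 := SUUnipotent.fixedField σ with hk0
  have hσc : σ c₀ = -c₀ := eq_neg_of_add_eq_zero_right hcs
  let R : Subfield k0 :=
    { carrier := {x | ∀ a ∈ A, (x : F) * a ∈ A}
      one_mem' := fun a ha => by simpa using ha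
      mul_mem' := fun {x y} hx hy a ha => by push_cast; rw [mul_assoc]; exact hx _ (hy a ha)
      zero_mem' := fun a _ => by simp
      add_mem' := fun {x y} hx hy a ha => by push_cast; rw [add_mul]; exact add_mem (hx a ha) (hy a ha)
      neg_mem' := fun {x} hx a ha => by push_cast; rw [neg_mul]; exact neg_mem (hx a ha)
      inv_mem' := fun x hx a ha => by
        rcases eq_or_ne x 0 with rfl | h0
        · simp
        haveI := Fintype.ofFinite k0
        have hp : ∀ n : ℕ, ∀ a ∈ A, ((x ^ n : k0) : F) * a ∈ A := by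
          intro n
          induction n with
          | zero => intro a ha; simpa using ha
          | succ n ih => intro a ha; rw [pow_succ]; push_cast; rw [mul_assoc]; exact ih _ (hx a ha)
        rw [show x⁻¹ = x ^ (Fintype.card k0 - 1 - 1) from inv_eq_of_mul_eq_one_right (by
          rw [← pow_succ', Nat.sub_add_cancel (by have := Fintype.one_lt_card (α := k0); omega),
            FiniteField.pow_card_sub_one_eq_one x h0])]
        exact hp _ a ha }
  have hqk : Nat.card k0 = q := by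
    have h1 := UFrameMax.card_fix_sq S.conj
    rw [S.card] at h1
    rw [Nat.pow_left_injective two_ne_zero h1, ← Nat.card_eq_finsetCard]
    exact Nat.card_congr (Equiv.subtypeEquivRight fun y => UFrameMax.mem_fixS.symm)
  set s := Nat.card R
  set j := finrank R k0
  have hsj : q = s ^ j := by rw [← hqk]; exact Module.natCard_eq_pow_finrank
  have hs2 : 2 ≤ s := Finite.one_lt_card
  have hj2 : 2 ≤ j := by
    by_contra hlt
    have hj : j = 1 := by have := Module.finrank_pos (R := R) (M := k0); omega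
    rw [hj, pow_one] at hsj
    have htop : ∀ x : k0, x ∈ R := fun x => by
      obtain ⟨r, hr⟩ := ((Subtype.val_injective (p := fun y => y ∈ R)).bijective_of_nat_card_le
        (hqk.trans hsj).le).2 x
      exact hr ▸ r.2
    refine hc1A ?_
    have hfix : σ (c₁ / c₀) = c₁ / c₀ := by
      rw [map_div₀, eq_neg_of_add_eq_zero_right hc1, hσc, neg_div_neg_eq]
    have := htop ⟨c₁ / c₀, hfix⟩ c₀ hc₀
    rwa [div_mul_cancel₀ _ hc0] at this
  have hsq : s * s ≤ q := by rw [hsj, ← pow_two]; exact Nat.pow_le_pow_right (by omega) hj2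
  -- the scaled norm along the orbit
  obtain ⟨z, hz0, hz⟩ := S.inner v₀ hv0
  obtain ⟨p, n, hp, hpF, hpK, hqn⟩ := S.exists_char
  haveI := Fact.mk hp
  let lam : Kˣ → F := fun k =>
    c₀ * (c₀ * (B v₀ ((S.D.toGL k : M3) *ᵥ v₀) * σ (B v₀ ((S.D.toGL k : M3) *ᵥ v₀))))
  have hlamfix : ∀ k, σ (lam k) = lam k := fun k => by
    simp only [lam, map_mul, hσc, S.conj.invol]; ring
  -- the translated transvections
  have hmove : ∀ k ∈ S.T, ∀ a ∈ A, ∀ (h : stdHerm σ 3 ((S.D.toGL k : M3) *ᵥ v₀) ((S.D.toGL k : M3) *ᵥ v₀) = 0),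
      uTr σ ((S.D.toGL k : M3) *ᵥ v₀) h a ∈ M := by
    intro k hk a ha h
    have := mul_mem (mul_mem (hT k hk) ha.2) (inv_mem (hT k hk))
    rwa [uTr_conj S.frob (hMU (hT k hk))] at this
  have key : ∀ s' : ℕ, (∀ k ∈ S.T, lam k ^ s' = lam k) → ∀ j' : ℕ, q = s' ^ j' → 2 ≤ s' → s' * s' ≤ q →
      (∃ m, s' = p ^ m) → False := by
    intro s' hs' j' hj' h2s hsq' hps
    haveI : ExpChar K p := ExpChar.prime hp
    refine not_fixed_pow (K := K) (c := algebraMap F K (c₀ * c₀)) (z := z) (z₁ := z ^ q ^ 2) (z₂ := z ^ q ^ 4)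
      hq h5 h2s hsq' hj' hps S.tn_dvd ?_ hz0 (pow_ne_zero _ hz0) (pow_ne_zero _ hz0) fun k hk => ?_
    · simp [hc0]
    obtain ⟨e1, e2⟩ := hz k (S.mem_T.2 hk)
    have hk' := S.mem_T.2 hk
    have htr : ∀ u : Kˣ, u ∈ S.T → algebraMap F K (Algebra.trace F K (z * (u : K))) =
        z * (u : K) + z ^ q ^ 2 * (u : K) ^ ((q : ℤ) - 1) + z ^ q ^ 4 * (u : K) ^ (-(q : ℤ)) := by
      intro u hu
      rw [FiniteField.algebraMap_trace_eq_sum_pow, S.dim, S.natCard_F]
      simp only [Finset.sum_range_succ, Finset.sum_range_zero, zero_add, pow_zero, pow_one, mul_pow]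
      congr 2
      · rw [← zpow_natCast (u : K), ← Units.val_zpow_eq_zpow_val, S.zpow_eq hu (b := (q : ℤ) - 1) ⟨1, by push_cast; ring⟩,
          Units.val_zpow_eq_zpow_val]
      · rw [← pow_mul]
      · rw [← zpow_natCast (u : K), ← Units.val_zpow_eq_zpow_val, S.zpow_eq hu (b := -(q : ℤ))
          ⟨(q : ℤ) * ((q : ℤ) + 1), by push_cast; ring⟩, Units.val_zpow_eq_zpow_val]
    have hval : algebraMap F K (lam k) = algebraMap F K (c₀ * c₀) *
        ((z * (k : K) + z ^ q ^ 2 * (k : K) ^ ((q : ℤ) - 1) + z ^ q ^ 4 * (k : K) ^ (-(q : ℤ))) *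
          (z * (k : K) ^ (-1 : ℤ) + z ^ q ^ 2 * (k : K) ^ (-((q : ℤ) - 1)) + z ^ q ^ 4 * (k : K) ^ (q : ℤ))) := by
      have h' := htr k⁻¹ (S.T.inv_mem hk')
      rw [Units.val_inv_eq_inv_val] at h'
      simp only [lam]
      rw [e2, e1, map_mul, map_mul, map_mul, htr k hk', Units.val_inv_eq_inv_val, h', map_mul]
      simp only [_root_.inv_zpow', _root_.zpow_neg_one, neg_neg]
      ring
    rw [← hval, ← map_pow, hs' k hk']
  have hps : ∀ (R' : Subfield k0), ∃ m, Nat.card R' = p ^ m := fun R' => by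
    haveI := Fintype.ofFinite R'
    haveI : CharP k0 p := (RingHom.charP_iff k0.subtype k0.subtype.injective p).2 hpF
    haveI : CharP R' p := (RingHom.charP_iff R'.subtype R'.subtype.injective p).2 inferInstance
    obtain ⟨m, -, hm⟩ := FiniteField.card R' p
    exact ⟨m, by rw [Nat.card_eq_fintype_card, hm]⟩
  have hpow : ∀ k, (⟨lam k, hlamfix k⟩ : k0) ∈ R → lam k ^ s = lam k := fun k hk => by
    haveI := Fintype.ofFinite R
    have := FiniteField.pow_card (⟨_, hk⟩ : R)
    rw [← Nat.card_eq_fintype_card] at this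
    exact congrArg (fun x : R => ((x : k0) : F)) this
  by_cases h2 : (2 : F) = 0
  · -- characteristic two
    rcases Nat.lt_or_ge (Nat.card A) 4 with h4 | h4
    · refine S.no_isolated hT hMs hq h5 h2 hv0 hc₀ hc0 fun a ha => ?_
      haveI : CharP F 2 := CharTwo.of_one_ne_zero_of_two_eq_zero one_ne_zero h2
      by_contra hne
      push Not at hne
      have hsub : ({0, a, c₀, a + c₀} : Finset F) ⊆ (A : Set F).toFinite.toFinset := by
        intro x hx
        simp only [Finset.mem_insert, Finset.mem_singleton] at hx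
        simp only [Set.Finite.mem_toFinset, SetLike.mem_coe]
        rcases hx with rfl | rfl | rfl | rfl
        exacts [A.zero_mem, ha, hc₀, A.add_mem ha hc₀]
      have hcard := Finset.card_le_card hsub
      have hd : ({0, a, c₀, a + c₀} : Finset F).card = 4 := by
        have e1 : a + c₀ ≠ 0 := fun e => hne.2 (by rw [CharTwo.add_eq_zero] at e; exact e)
        have e2 : a ≠ a + c₀ := fun e => hc0 (left_eq_add.1 e)
        have e3 : c₀ ≠ a + c₀ := fun e => hne.1 (right_eq_add.1 e)
        rw [Finset.card_insert_of_notMem (by simp [hne.1.symm, hc0.symm, e1.symm]),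
          Finset.card_insert_of_notMem (by simp [hne.2, e2]), Finset.card_pair e3]
      rw [← Set.ncard_eq_toFinset_card, ← Nat.card_coe_set_eq] at hcard
      change _ ≤ Nat.card A at hcard
      omega
    · refine key s (fun k hk => ?_) j hsj hs2 hsq (hps R)
      refine hpow k fun a ha => ?_
      by_cases hδ : B v₀ ((S.D.toGL k : M3) *ᵥ v₀) = 0
      · simp only [lam, hδ, zero_mul, mul_zero]; exact A.zero_mem
      refine pair_even S.conj hv (gu_isotropic S.frob (hMU (hT k hk)) hv) hδ hc0 h2 (A := A) (fun a ha => ha.1)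
        (fun a => ⟨fun ha => ha.2, fun ha => ⟨?_, ha⟩⟩) (fun a ha => hmove k hk a ha _) hc₀ h4 rfl a ha
      · by_cases ha0 : a = 0
        · simp [ha0]
        have hperp' : (fun i => σ (v₀ i)) ⬝ᵥ (a • v₀) = 0 := by
          rw [dotProduct_smul, conj_dot, hv, smul_zero]
        obtain ⟨-, c', -, hc', e⟩ := transv_unitary S.frob S.conj (smul_ne_zero ha0 hv0)
          (fun e => hv0 (funext fun i => (map_eq_zero σ).1 (congrFun e i))) (hperp := hperp') (hMU ha)
        have : c' = (σ a)⁻¹ := by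
          obtain ⟨i, hi⟩ := Function.ne_iff.1 hv0
          have := congrFun e i
          simp only [Pi.smul_apply, smul_eq_mul, map_mul] at this
          have hσi : σ (v₀ i) ≠ 0 := (map_ne_zero σ).2 hi
          refine eq_inv_of_mul_eq_one_left (mul_right_cancel₀ hσi ?_)
          linear_combination -this
        rw [this, map_inv₀, S.conj.invol] at hc'
        have hσa : σ a ≠ 0 := (map_ne_zero σ).2 ha0
        field_simp at hc'
        linear_combination hc'
  · -- odd characteristic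
    have step : ∀ k ∈ S.T, (∀ a ∈ A, lam k * a ∈ A) ∨
        (lam k ^ 9 = lam k ∧ ringChar F = 3 ∧ Nat.card A ≤ 3 ∧ ∃ x : k0, x ^ 2 = -1) := by
      intro k hk
      by_cases hδ : B v₀ ((S.D.toGL k : M3) *ᵥ v₀) = 0
      · exact .inl fun a ha => by simp only [lam, hδ, zero_mul, mul_zero]; exact A.zero_mem
      let A' : AddSubgroup F := A ⊓ A.comap (AddMonoidHom.mulLeft (lam k))
      have hexc : ∀ d ∈ A, d ∉ A' → (lam k * d / c₀) ^ 2 = -1 ∧ (lam k * d / c₀) ^ 9 = lam k * d / c₀ ∧
          ringChar F = 3 := by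
        intro d hd hdA'
        have hd0 : d ≠ 0 := fun e => hdA' (e ▸ A'.zero_mem)
        have hl : lam k * d / c₀ = c₀ * (d * (B v₀ ((S.D.toGL k : M3) *ᵥ v₀) *
            σ (B v₀ ((S.D.toGL k : M3) *ᵥ v₀)))) := by
          simp only [lam]; field_simp
        refine ((pair_odd S.conj hv (gu_isotropic S.frob (hMU (hT k hk)) hv) hδ hd0 h2 hc₀.2
          (hmove k hk d hd _) hc0 hl).resolve_left fun hmem' => hdA' ⟨hd, ?_⟩)
        show lam k * d + σ (lam k * d) = 0 ∧ uTr σ v₀ hv (lam k * d) ∈ M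
        refine ⟨?_, by convert hmem' using 2; field_simp⟩
        rw [map_mul, hlamfix, eq_neg_of_add_eq_zero_right hd.1]
        ring
      by_cases hall : ∀ a ∈ A, a ∈ A'
      · exact .inl fun a ha => (hall a ha).2
      push Not at hall
      obtain ⟨d, hd, hdA'⟩ := hall
      obtain ⟨hd2, -, hchar⟩ := hexc d hd hdA'
      -- the exceptions fill everything outside `A'`
      have hsqr : ∀ e ∈ A, e ∉ A' → e = d ∨ e = -d := by
        intro e he heA'
        have he2 := (hexc e he heA').1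
        have hl0 : lam k ≠ 0 := fun e0 => by simp [e0] at hd2
        have : (e - d) * (e + d) = 0 := by
          have h := he2.trans hd2.symm
          field_simp at h
          linear_combination h
        exact (mul_eq_zero.1 this).imp sub_eq_zero.1 eq_neg_of_add_eq_zero_left
      have hA'0 : ∀ a ∈ A', a = 0 := by
        intro a ha
        rcases hsqr (d + a) (A.add_mem hd ha.1) (fun h => hdA' (by simpa using A'.sub_mem h ha)) with e | e
        · simpa using e
        · exfalso
          refine hdA' ?_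
          have h2d : (2 : F) * d ∈ A' := by
            rw [show (2 : F) * d = -a by linear_combination e]; exact A'.neg_mem ha
          haveI : CharP F 3 := hchar ▸ ringChar.charP F
          have h3 : (3 : F) = 0 := by exact_mod_cast CharP.cast_eq_zero F 3
          rw [show d = -((2 : F) * d) by linear_combination d * h3]
          exact A'.neg_mem h2d
      have hcA' : c₀ ∉ A' := fun h => hc0 (hA'0 _ h)
      obtain ⟨hc2, hc9, -⟩ := hexc c₀ hc₀ hcA'
      rw [mul_div_assoc, div_self hc0, mul_one] at hc2 hc9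
      refine .inr ⟨hc9, hchar, ?_, ⟨⟨lam k, hlamfix k⟩, Subtype.ext hc2⟩⟩
      have hsub : (A : Set F) ⊆ ({0, d, -d} : Finset F) := fun a ha => by
        simp only [Finset.coe_insert, Finset.coe_singleton, Set.mem_insert_iff, Set.mem_singleton_iff]
        by_cases haA' : a ∈ A'
        · exact .inl (hA'0 a haA')
        · exact .inr (hsqr a ha haA')
      have := Set.ncard_le_ncard hsub (Finset.finite_toSet _)
      rw [Set.ncard_coe_finset, ← Nat.card_coe_set_eq] at this
      exact this.trans Finset.card_le_three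
    by_cases hex : ∃ k ∈ S.T, ¬ ∀ a ∈ A, lam k * a ∈ A
    · obtain ⟨k₁, hk₁, hne⟩ := hex
      obtain ⟨-, hchar, hA3, x, hx⟩ := (step k₁ hk₁).resolve_left hne
      haveI : CharP F 3 := hchar ▸ ringChar.charP F
      have hp3 : p = 3 := hpF.eq F ‹CharP F 3›
      subst hp3
      -- the multipliers form the prime field
      have hs3 : s = 3 := by
        have hle : s ≤ 3 := le_trans (Nat.card_le_card_of_injective
          (fun r : R => (⟨((r : k0) : F) * c₀, r.2 c₀ hc₀⟩ : A)) fun a b e =>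
            Subtype.ext (Subtype.ext (mul_right_cancel₀ hc0 (congrArg Subtype.val e)))) hA3
        obtain ⟨m, hm⟩ := hps R
        rcases m.eq_zero_or_pos with rfl | hm0
        · rw [pow_zero] at hm; omega
        · have : 3 ^ 1 ≤ 3 ^ m := Nat.pow_le_pow_right (by norm_num) hm0
          omega
      -- and the fixed field contains a square root of `-1`
      haveI := Fintype.ofFinite k0
      have hsquare : IsSquare (-1 : k0) := ⟨x, by rw [← hx]; ring⟩
      rw [FiniteField.isSquare_neg_one_iff, ← Nat.card_eq_fintype_card, hqk, hqn] at hsquare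
      obtain ⟨i, hi⟩ | ⟨i, hi⟩ := Nat.even_or_odd n
      · refine key 9 (fun k hk => ?_) i (by rw [hqn, hi, ← two_mul, pow_mul]; norm_num) (by norm_num) ?_
          ⟨2, by norm_num⟩
        · rcases step k hk with h | h
          · have := hpow k h
            rw [hs3] at this
            rw [show 9 = 3 * 3 from rfl, pow_mul, this, this]
          · exact h.1
        · have hi2 : 2 ≤ i := by
            by_contra hlt
            rw [hqn, hi] at h9 hq
            rcases (show i = 0 ∨ i = 1 by omega) with e | e <;> subst e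
            · norm_num at hq
            · norm_num at h9
          calc 9 * 9 = 3 ^ (2 + 2) := rfl
            _ ≤ q := by rw [hqn, hi]; exact Nat.pow_le_pow_right (by norm_num) (by omega)
      · rw [hi, pow_succ, pow_mul] at hsquare
        simp [Nat.mul_mod, Nat.pow_mod] at hsquare
    · push Not at hex
      exact key s (fun k hk => hpow k (hex k hk)) j hsj hs2 hsq (hps R)

end CfsgLib.Classical.GeoThree.SU.Singer
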