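import Cfsg.Agent.Lib.Classical.GeoThree.Singer.Odd
import Cfsg.Agent.Lib.Classical.GeoThree.SU.Bridge
import Cfsg.Agent.Lib.Classical.GeoThree.C6.Dichotomy

/-!
# The unitary torus of a cubic extension closed under adjoints

The adjoint is `k ↦ k ^ (q³)`, so the elements with `k ^ (q² - q + 1) = 1` are unitary of determinant one.
-/

set_option autoImplicit false
set_option linter.unusedSectionVars false
set_option linter.style.haveILetI false
set_option backward.isDefEq.respectTransparency false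

open Matrix Module

namespace CfsgLib.Classical.GeoThree.SU.Singer

open CfsgLib.Classical
open CfsgLib.Classical.GeoThree.Singer (Frame)
open Cfsg.Geo (specialLinear subalgebraNormalizer ActsIrreducibly matrixSet)

/-- A cubic extension acting on `F³`, closed under adjoints for the standard Hermitian form. -/
structure Torus (F K : Type*) [Field F] [Fintype F] [Field K] [Algebra F K] (q : ℕ) (σ : F →+* F) where
  D : Frame F K (⊤ : Subgroup (GL (Fin 3) F))
  card : Fintype.card F = q ^ 2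
  frob : ∀ x, σ x = x ^ q
  conj : IsConjugation σ
  dim : finrank F K = 3
  adj : ∀ k : K, ∃ k' : K, ∀ u v,
    stdHerm σ 3 (D.ρ k *ᵥ u) v = stdHerm σ 3 u (D.ρ k' *ᵥ v)

variable {F K : Type*} [Field F] [Fintype F] [Field K] [Finite K] [Algebra F K] {q : ℕ} {σ : F →+* F}

local notation "M3" => Matrix (Fin 3) (Fin 3) F
local notation "G3" => GL (Fin 3) F
local notation "B" => stdHerm σ 3

/-- The order of the torus. -/
abbrev tn (q : ℕ) : ℕ := q ^ 2 - q + 1

theorem cast_tn (q : ℕ) : ((tn q : ℕ) : ℤ) = (q : ℤ) ^ 2 - q + 1 := by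
  rw [tn, Nat.cast_add, Nat.cast_sub (by nlinarith)]
  push_cast
  ring

theorem tn_dvd_six (q : ℕ) : tn q ∣ q ^ 6 - 1 := by
  rcases Nat.eq_zero_or_pos q with rfl | hq
  · simp
  have h1 : 1 ≤ q ^ 6 := Nat.one_le_pow _ _ hq
  rw [← Int.natCast_dvd_natCast, cast_tn, Nat.cast_sub h1]
  push_cast
  exact ⟨((q : ℤ) + 1) * ((q : ℤ) ^ 3 - 1), by ring⟩

variable (S : Torus F K q σ)
include S

theorem Torus.two_le : 2 ≤ q := two_le_of_card_sq S.card

theorem Torus.natCard_F : Nat.card F = q ^ 2 := by rw [Nat.card_eq_fintype_card, S.card]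

theorem Torus.natCard_K : Nat.card K = q ^ 6 := by
  rw [Module.natCard_eq_pow_finrank (K := F), S.dim, S.natCard_F, ← pow_mul]

theorem Torus.natCard_units : Nat.card Kˣ = q ^ 6 - 1 := by rw [Nat.card_units, S.natCard_K]

theorem Torus.tn_dvd : tn q ∣ Nat.card Kˣ := S.natCard_units ▸ tn_dvd_six q

theorem Torus.frob_six (x : K) : x ^ q ^ 6 = x := by
  haveI := Fintype.ofFinite K
  rw [← S.natCard_K, Nat.card_eq_fintype_card, FiniteField.pow_card]

/-- The `q`-th power is additive. -/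
theorem Torus.exists_char : ∃ (p n : ℕ), p.Prime ∧ CharP F p ∧ CharP K p ∧ q = p ^ n := by
  obtain ⟨p, hp⟩ := CharP.exists F
  obtain ⟨e, hpp, he⟩ := FiniteField.card F p
  obtain ⟨n, -, hn⟩ := (Nat.dvd_prime_pow hpp).1
    (show q ∣ p ^ (e : ℕ) by rw [← he, S.card]; exact dvd_pow_self q two_ne_zero)
  exact ⟨p, n, hpp, hp, charP_of_injective_algebraMap (algebraMap F K).injective p, hn⟩

theorem Torus.pow_q_injective (e : ℕ) : Function.Injective fun x : K => x ^ q ^ e := by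
  obtain ⟨p, n, hp, -, hK, hq⟩ := S.exists_char
  haveI := Fact.mk hp
  intro a b h
  apply (iterateFrobenius K p (n * e)).injective
  rw [iterateFrobenius_def, iterateFrobenius_def, pow_mul, ← hq]
  exact h

/-- The adjoint. -/
noncomputable def Torus.τ (k : K) : K := (S.adj k).choose

theorem Torus.τ_spec (k : K) (u v : Fin 3 → F) : B (S.D.ρ k *ᵥ u) v = B u (S.D.ρ (S.τ k) *ᵥ v) :=
  (S.adj k).choose_spec u v

theorem Torus.τ_unique {k k' : K} (h : ∀ u v, B (S.D.ρ k *ᵥ u) v = B u (S.D.ρ k' *ᵥ v)) : S.τ k = k' := by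
  refine S.D.ρ_injective (Matrix.ext_iff_mulVec.2 fun v => ?_)
  funext i
  have := (S.τ_spec k (Pi.single i 1) v).symm.trans (h (Pi.single i 1) v)
  rwa [stdHerm_single, stdHerm_single] at this

/-- The adjoint is the Frobenius map of order two. -/
theorem Torus.τ_eq (k : K) : S.τ k = k ^ q ^ 3 := by
  classical
  have hh := stdHerm_isHermitian S.conj 3
  have hadd : ∀ a b, S.τ (a + b) = S.τ a + S.τ b := fun a b => S.τ_unique fun u v => by
    rw [map_add, map_add, add_mulVec, add_mulVec, map_add, LinearMap.add_apply, map_add, S.τ_spec, S.τ_spec]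
  have hmul : ∀ a b, S.τ (a * b) = S.τ a * S.τ b := fun a b => S.τ_unique fun u v => by
    rw [map_mul, ← mulVec_mulVec, S.τ_spec, S.τ_spec, mulVec_mulVec, ← map_mul, mul_comm (S.τ b)]
  have halg : ∀ c : F, S.τ (algebraMap F K c) = algebraMap F K (σ c) := fun c => S.τ_unique fun u v => by
    rw [AlgHom.commutes, AlgHom.commutes, Algebra.algebraMap_eq_smul_one, Algebra.algebraMap_eq_smul_one,
      smul_mulVec, smul_mulVec, one_mulVec, one_mulVec, map_smulₛₗ, LinearMap.smul_apply, map_smul]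
  have hinv : ∀ a, S.τ (S.τ a) = a := fun a => S.τ_unique fun u v => by
    rw [← hh.symm v, ← S.τ_spec a v u, hh.symm]
  obtain ⟨p, n, hp, -, hK, hq⟩ := S.exists_char
  haveI := Fact.mk hp
  let ψ : K →ₐ[F] K :=
    { toFun := fun a => S.τ a ^ q
      map_one' := by rw [← map_one (algebraMap F K), halg, map_one, map_one, one_pow]
      map_mul' := fun a b => by simp only [hmul, mul_pow]
      map_zero' := by rw [← map_zero (algebraMap F K), halg, map_zero, map_zero, zero_pow (by have := S.two_le; omega)]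
      map_add' := fun a b => by simp only [hadd, hq, add_pow_char_pow]
      commutes' := fun c => by rw [halg, ← map_pow, ← S.frob, S.conj.invol] }
  haveI : Module.Finite F K := Module.finite_of_finrank_pos (by rw [S.dim]; norm_num)
  obtain ⟨j, hj⟩ := (FiniteField.bijective_frobeniusAlgHom_pow F K).2 ψ
  have hψ : ∀ a, S.τ a ^ q = a ^ q ^ (2 * (j : ℕ)) := fun a => by
    have := DFunLike.congr_fun hj a
    rw [AlgHom.coe_pow, FiniteField.coe_frobeniusAlgHom, pow_iterate] at this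
    rw [show q ^ (2 * (j : ℕ)) = Fintype.card F ^ (j : ℕ) by rw [S.card, ← pow_mul]]
    exact this.symm
  have h2 : ∀ a : K, a ^ q ^ 2 = a ^ q ^ (4 * (j : ℕ)) := fun a => by
    have h := hψ (S.τ a)
    rw [hinv] at h
    rw [show q ^ 2 = q * q by ring, pow_mul, h, ← pow_mul, ← pow_succ, pow_succ', pow_mul, hψ, ← pow_mul,
      ← pow_add, show 2 * (j : ℕ) + 2 * (j : ℕ) = 4 * (j : ℕ) by ring]
  have hgal : ∀ m : ℕ, (∀ a : K, a ^ q ^ (2 * m) = a) → m % 3 = 0 := by
    intro m hm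
    by_contra h
    have hall : ∀ a : K, a ^ q ^ (2 * (m % 3)) = a := fun a => by
      have e := hm a
      rw [show 2 * m = 6 * (m / 3) + 2 * (m % 3) by omega, pow_add, pow_mul] at e
      have h6 : ∀ i, a ^ q ^ (6 * i) = a := fun i => by
        induction i with
        | zero => simp
        | succ i ih => rw [show 6 * (i + 1) = 6 * i + 6 by ring, pow_add, pow_mul, ih, S.frob_six]
      rwa [h6] at e
    have h3 : m % 3 < finrank F K := by rw [S.dim]; omega
    have hne := (FiniteField.bijective_frobeniusAlgHom_pow F K).1 (a₁ := ⟨m % 3, h3⟩) (a₂ := ⟨0, by omega⟩)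
      (AlgHom.ext fun a => by
        simp only [AlgHom.coe_pow, FiniteField.coe_frobeniusAlgHom, pow_iterate, pow_zero, pow_one]
        rw [S.card, ← pow_mul]; exact hall a)
    exact h (congrArg Fin.val hne)
  have hj3 : (j : ℕ) = 2 := by
    have hjlt : (j : ℕ) < 3 := lt_of_lt_of_eq j.2 S.dim
    interval_cases hji : (j : ℕ)
    · have := hgal 1 (fun a => by simpa using h2 a)
      simp at this
    · have := hgal 1 (fun a => by
        refine (S.pow_q_injective 2) ?_
        simp only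
        rw [← pow_mul, ← pow_add, show 2 * 1 + 2 = 4 * 1 by rfl]
        exact (h2 a).symm)
      simp at this
    · rfl
  refine S.pow_q_injective 1 ?_
  simp only [pow_one]
  rw [hψ, hj3, ← pow_mul, ← pow_succ]

/-- The determinant is the norm. -/
theorem Torus.det_ρ (k : K) : (S.D.ρ k).det = Algebra.norm F k := by
  have h : Matrix.toLin' (S.D.ρ k) = S.D.Φ.conj (Algebra.lmul F K k) := by
    refine LinearMap.ext fun u => ?_
    obtain ⟨x, rfl⟩ := S.D.Φ.surjective u
    rw [LinearEquiv.conj_apply_apply, S.D.Φ.symm_apply_apply, Matrix.toLin'_apply, S.D.act]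
    rfl
  haveI : Module.Finite F K := Module.finite_of_finrank_pos (by rw [S.dim]; norm_num)
  rw [← LinearMap.det_toLin', h, LinearEquiv.conj_apply, LinearMap.comp_assoc, LinearMap.det_conj,
    Algebra.norm_apply]

/-- The torus elements. -/
def Torus.T : Subgroup Kˣ :=
  let _ := S
  (powMonoidHom (tn q)).ker

theorem Torus.mem_T {k : Kˣ} : k ∈ S.T ↔ k ^ tn q = 1 := MonoidHom.mem_ker

theorem Torus.card_T : Nat.card S.T = tn q := by
  rw [Torus.T, IsCyclic.card_powMonoidHom_ker, Nat.gcd_eq_right S.tn_dvd]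

theorem Torus.zpow_eq {k : Kˣ} (hk : k ∈ S.T) {a b : ℤ} (h : (q : ℤ) ^ 2 - q + 1 ∣ a - b) : k ^ a = k ^ b := by
  refine zpow_eq_zpow_iff_modEq.2 ((Int.modEq_iff_dvd.2 ?_).symm)
  rw [← cast_tn] at h
  exact (Int.natCast_dvd_natCast.2 (orderOf_dvd_of_pow_eq_one (S.mem_T.1 hk))).trans h

theorem Torus.q_three {k : Kˣ} (hk : k ∈ S.T) : (k : K) ^ q ^ 3 = ((k⁻¹ : Kˣ) : K) := by
  rw [← zpow_natCast, ← Units.val_zpow_eq_zpow_val, S.zpow_eq hk (b := -1) ⟨(q : ℤ) + 1, by push_cast; ring⟩,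
    _root_.zpow_neg_one]

theorem Torus.gu_of_T {k : Kˣ} (hk : k ∈ S.T) :
    S.D.toGL k ∈ Cfsg.GU 3 F q ⊓ specialLinear (Fin 3) F := by
  refine Subgroup.mem_inf.2 ⟨(mem_GU_iff S.frob).2 fun x y => ?_, ?_⟩
  · rw [S.D.toGL_val, S.τ_spec, mulVec_mulVec, ← map_mul, S.τ_eq, S.q_three hk, Units.inv_mul, map_one,
      one_mulVec]
  · rw [C6.mem_sl, S.D.toGL_val, S.det_ρ]
    apply (algebraMap F K).injective
    rw [FiniteField.algebraMap_norm_eq_pow_sum, S.dim, S.natCard_F, map_one, ← zpow_natCast,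
      ← Units.val_zpow_eq_zpow_val, S.zpow_eq hk (b := 0) ?_, zpow_zero, Units.val_one]
    refine ⟨(q : ℤ) ^ 2 + q + 1, ?_⟩
    simp [Finset.sum_range_succ]
    ring

/-- Adjointness in the form used for the values at an isotropic point. -/
theorem Torus.inner (v : Fin 3 → F) (hv : v ≠ 0) :
    ∃ z : K, z ≠ 0 ∧ ∀ k : Kˣ, k ∈ S.T →
      B v ((S.D.toGL k : M3) *ᵥ v) = Algebra.trace F K (z * k) ∧
      σ (B v ((S.D.toGL k : M3) *ᵥ v)) = Algebra.trace F K (z * ((k⁻¹ : Kˣ) : K)) := by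
  obtain ⟨a, ha⟩ := S.D.dual_surjective S.dim fun i => σ (v i)
  obtain ⟨x, hx⟩ := S.D.Φ.surjective v
  have hval : ∀ k : Kˣ, B v ((S.D.toGL k : M3) *ᵥ v) = Algebra.trace F K (a * x * k) := by
    intro k
    rw [← conj_dot, ← ha, ← hx, S.D.toGL_mulVec, S.D.dual_dot, mul_comm (k : K), mul_assoc]
  have hx0 : x ≠ 0 := fun e => hv (by rw [← hx, e, map_zero])
  have ha0 : a ≠ 0 := fun e => hv (funext fun i => by
    have := congrFun ha i
    rw [e] at this
    simp [Frame.dual] at this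
    exact (map_eq_zero σ).1 this.symm)
  refine ⟨a * x, mul_ne_zero ha0 hx0, fun k hk => ⟨hval k, ?_⟩⟩
  rw [(stdHerm_isHermitian S.conj 3).symm, ← hval k⁻¹]
  have h := (mem_GU_iff S.frob).1 (Subgroup.mem_inf.1 (S.gu_of_T (S.T.inv_mem hk))).1
    ((S.D.toGL k : M3) *ᵥ v) v
  rw [← h, mulVec_mulVec, ← Units.val_mul]
  congr 2
  rw [show S.D.toGL k⁻¹ = (S.D.toGL k)⁻¹ from map_inv (Units.map (S.D.ρ : K →* M3)) k, inv_mul_cancel,
    Units.val_one, one_mulVec]

/-- An element of large prime order in the torus, non-scalar. -/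
theorem Torus.exists_prime_element (hq : 4 ≤ q) (h5 : q ≠ 5) :
    ∃ (r : ℕ) (k : Kˣ), r.Prime ∧ 5 ≤ r ∧ k ∈ S.T ∧ orderOf k = r ∧
      ∀ n : ℕ, ¬ r ∣ n → ∀ μ : F, ((k ^ n : Kˣ) : K) ≠ μ • 1 := by
  classical
  obtain ⟨r, hr, hr5, hdvd⟩ : ∃ r : ℕ, r.Prime ∧ 5 ≤ r ∧ r ∣ tn q := by
    obtain ⟨r, hr, hr5, h⟩ := CfsgLib.Classical.GeoThree.Singer.exists_large_prime (q := q - 1) (by omega)
    refine ⟨r, hr, hr5, ?_⟩
    convert h using 1
    obtain ⟨m, rfl⟩ : ∃ m, q = m + 1 := ⟨q - 1, by omega⟩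
    rw [tn, Nat.add_sub_cancel, show (m + 1) ^ 2 = m ^ 2 + m + (m + 1) by ring, Nat.add_sub_cancel]
  haveI := Fact.mk hr
  rw [← S.card_T] at hdvd
  obtain ⟨⟨k, hk⟩, hord⟩ := exists_prime_orderOf_dvd_card' r hdvd
  rw [Subgroup.orderOf_mk] at hord
  refine ⟨r, k, hr, hr5, hk, hord, fun n hn μ hμ => ?_⟩
  -- a scalar of norm one
  have hd := C6.mem_sl.1 (Subgroup.mem_inf.1 (S.gu_of_T (S.T.pow_mem hk n))).2
  rw [S.D.toGL_val, hμ, map_smul, map_one, det_smul, det_one, mul_one, Fintype.card_fin] at hd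
  have h3 : k ^ (n * 3) = 1 := Units.ext (by
    rw [pow_mul, Units.val_pow_eq_pow_val, hμ, smul_pow, hd, one_pow, one_smul, Units.val_one])
  rcases (Nat.Prime.dvd_mul hr).1 (hord ▸ orderOf_dvd_of_pow_eq_one h3) with h | h
  · exact hn h
  · have := Nat.le_of_dvd (by norm_num) h
    omega

/-- A group containing the torus is irreducible. -/
theorem Torus.irreducible (hq : 4 ≤ q) (h5 : q ≠ 5) {M : Subgroup G3} (hT : ∀ k ∈ S.T, S.D.toGL k ∈ M) :
    ActsIrreducibly (matrixSet M) := by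
  rw [AschPrime.irr_iff]
  intro U hU
  let U' := U.comap S.D.Φ.toLinearMap
  let A : Subalgebra F K :=
    { carrier := {k | ∀ x ∈ U', k * x ∈ U'}
      mul_mem' := fun ha hb x hx => by rw [mul_assoc]; exact ha _ (hb x hx)
      add_mem' := fun ha hb x hx => by rw [add_mul]; exact U'.add_mem (ha x hx) (hb x hx)
      algebraMap_mem' := fun c x hx => by rw [← Algebra.smul_def]; exact U'.smul_mem c hx }
  obtain ⟨r, k, hr, hr5, hk, -, hns⟩ := S.exists_prime_element hq h5
  have hns1 : ∀ μ : F, (k : K) ≠ μ • 1 := by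
    simpa using hns 1 fun h => by have := Nat.le_of_dvd one_pos h; omega
  have hkA : (k : K) ∈ A := fun x hx => by
    show S.D.Φ ((k : K) * x) ∈ U
    rw [← S.D.toGL_mulVec]
    exact hU _ ⟨_, hT k hk, rfl⟩ _ hx
  haveI := Subalgebra.isSimpleOrder_of_finrank_prime F K (S.dim ▸ Nat.prime_three)
  have hA : A = ⊤ := (eq_bot_or_eq_top A).resolve_left fun h => by
    rw [h, Algebra.mem_bot] at hkA
    obtain ⟨μ, hμ⟩ := hkA
    exact hns1 μ (by rw [← hμ, Algebra.algebraMap_eq_smul_one])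
  by_cases hbot : U = ⊥
  · exact .inl hbot
  obtain ⟨v, hv, hv0⟩ := Submodule.exists_mem_ne_zero_of_ne_bot hbot
  refine .inr (eq_top_iff.2 fun u _ => ?_)
  obtain ⟨x, rfl⟩ := S.D.Φ.surjective v
  obtain ⟨y, rfl⟩ := S.D.Φ.surjective u
  have hx : x ≠ 0 := fun h => hv0 (by rw [h, map_zero])
  have := (hA ▸ Algebra.mem_top : y * x⁻¹ ∈ A) x hv
  rwa [inv_mul_cancel_right₀ hx] at this

end CfsgLib.Classical.GeoThree.SU.Singer
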