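import Cfsg.Agent.Lib.Classical.GeoThree.SU.Singer.Root
import Cfsg.Agent.Lib.KnownA.MinIndexU3.PGLTypes

/-!
# Two-by-two unitary blocks

A block of determinant `b` and trace `a` with `b * σ b = 1` and `σ a = a / b` has its `(q-1)`-th or
`(q+1)`-th power scalar, up to elements of order `p`.
-/

set_option autoImplicit false
set_option linter.unusedSectionVars false
set_option linter.style.haveILetI false
set_option backward.isDefEq.respectTransparency false

open Matrix Polynomial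

namespace CfsgLib.Classical.GeoThree.SU.Singer

open CfsgLib.Classical

variable {F : Type*} [Field F] [Fintype F] {q : ℕ} {σ : F →+* F}

local notation "M2" => Matrix (Fin 2) (Fin 2) F

theorem scalar_of_dvd {A : M2} {μ ν : F} (hs : μ + ν = A.trace) (hm : μ * ν = A.det) {e : ℕ}
    (h : (X - C μ) * (X - C ν) ∣ X ^ e - C (μ ^ e)) : A ^ e = (μ ^ e) • 1 := by
  obtain ⟨P, hP⟩ := h
  have h0 : aeval A ((X - C μ) * (X - C ν)) = 0 := by
    simp only [map_mul, map_sub, aeval_X, aeval_C, Algebra.algebraMap_eq_smul_one]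
    rw [Matrix.trace_fin_two] at hs
    rw [Matrix.det_fin_two] at hm
    ext i j
    fin_cases i <;> fin_cases j <;>
      simp [Matrix.mul_apply, Fin.sum_univ_two]
    · linear_combination -(A 0 0) * hs + hm
    · linear_combination -(A 0 1) * hs
    · linear_combination -(A 1 0) * hs
    · linear_combination -(A 1 1) * hs + hm
  have h1 := congrArg (aeval A) hP
  rw [map_mul, h0, zero_mul, map_sub, map_pow, aeval_X, aeval_C, Algebra.algebraMap_eq_smul_one] at h1
  exact sub_eq_zero.1 h1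

/-- The order of a block in `PGL₂`. -/
theorem pgl_order (hF : Fintype.card F = q ^ 2) (hσ : ∀ x, σ x = x ^ q) (hc : IsConjugation σ) (hodd : Odd q)
    (p : ℕ) [Fact p.Prime] [CharP F p] {A : GL (Fin 2) F}
    (hb : (A : M2).det * σ (A : M2).det = 1) (ha : σ (A : M2).trace * (A : M2).det = (A : M2).trace) :
    ProjGenLinGroup.mk A ^ p = 1 ∨ ProjGenLinGroup.mk A ^ (q - 1) = 1 ∨
      ProjGenLinGroup.mk A ^ (q + 1) = 1 := by
  classical
  set a := (A : M2).trace with ha'
  set b := (A : M2).det with hb'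
  have hq : 2 ≤ q := two_le_of_card_sq hF
  obtain ⟨m, rfl⟩ := hodd
  have hchar : ringChar F ≠ 2 := fun h => by
    have := FiniteField.even_card_of_char_two h
    rw [hF, Nat.pow_mod] at this
    norm_num [Nat.add_mod, Nat.mul_mod] at this
  have h2 : (2 : F) ≠ 0 := Ring.two_ne_zero hchar
  have hhalf : Fintype.card F / 2 = 2 * m * (m + 1) := by
    rw [hF, show (2 * m + 1) ^ 2 = 2 * (2 * m * (m + 1)) + 1 by ring]; omega
  have hb0 : b ≠ 0 := left_ne_zero_of_mul_eq_one hb
  have hbsq : IsSquare b := by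
    rw [FiniteField.isSquare_iff hchar hb0, hhalf, show 2 * m * (m + 1) = (2 * m + 1 + 1) * m by ring, pow_mul,
      pow_succ', ← hσ, hb, one_pow]
  have hksq : ∀ x : F, σ x = x → IsSquare x := fun x hx => by
    rcases eq_or_ne x 0 with rfl | h0
    · exact IsSquare.zero
    rw [FiniteField.isSquare_iff hchar h0, hhalf, show 2 * m * (m + 1) = 2 * m * (m + 1) from rfl, pow_mul,
      show x ^ (2 * m) = 1 from mul_left_cancel₀ h0 (by rw [← pow_succ', ← hσ, hx, mul_one]), one_pow]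
  have hdisc : IsSquare (a ^ 2 - 4 * b) := by
    rw [show a ^ 2 - 4 * b = b * (σ a * a - 4) by linear_combination -a * ha]
    exact hbsq.mul (hksq _ (by rw [map_sub, map_mul, hc.invol, map_ofNat, mul_comm]))
  obtain ⟨s, hs⟩ := hdisc
  obtain ⟨μ, hμ⟩ : ∃ μ, μ = (a + s) / 2 := ⟨_, rfl⟩
  obtain ⟨ν, hν⟩ : ∃ ν, ν = (a - s) / 2 := ⟨_, rfl⟩
  have hsum : μ + ν = a := by rw [hμ, hν]; field_simp; ring
  have hprod : μ * ν = b := by rw [hμ, hν]; field_simp; linear_combination hs
  have hμ0 : μ ≠ 0 := fun h => hb0 (by rw [← hprod, h, zero_mul])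
  have hν0 : ν ≠ 0 := fun h => hb0 (by rw [← hprod, h, mul_zero])
  have hmk : ∀ e : ℕ, (A : M2) ^ e = (μ ^ e) • 1 → ProjGenLinGroup.mk A ^ e = 1 := fun e he => by
    have : A ^ e = Matrix.GeneralLinearGroup.scalar (Fin 2) (Units.mk0 _ (pow_ne_zero e hμ0)) := by
      refine Units.ext ?_
      rw [Units.val_pow_eq_pow_val, he]
      simp [Matrix.smul_one_eq_diagonal]
    rw [← map_pow, this, ProjGenLinGroup.mk_scalar]
  by_cases hμν : μ = ν
  · refine .inl (hmk p (scalar_of_dvd hsum hprod ?_))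
    rw [← hμν, map_pow, ← sub_pow_char, ← pow_two]
    exact pow_dvd_pow _ (Fact.out : p.Prime).two_le
  · have key : ∀ e : ℕ, μ ^ e = ν ^ e → ProjGenLinGroup.mk A ^ e = 1 := fun e he => by
      refine hmk e (scalar_of_dvd hsum hprod ((isCoprime_X_sub_C_of_isUnit_sub
        (isUnit_iff_ne_zero.2 (sub_ne_zero.2 hμν))).mul_dvd ?_ ?_))
      · rw [dvd_iff_isRoot]; simp
      · rw [dvd_iff_isRoot]; simp [he]
    obtain ⟨ρ, hρ⟩ : ∃ ρ, ρ = μ / ν := ⟨_, rfl⟩
    have hρ0 : ρ ≠ 0 := hρ ▸ div_ne_zero hμ0 hν0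
    have hμρ : μ = ρ * ν := by rw [hρ, div_mul_cancel₀ _ hν0]
    have hw : ρ + ρ⁻¹ = σ a * a - 2 := by
      have hσa : σ a = a / b := by rw [eq_div_iff hb0, ha]
      rw [hσa, hρ, inv_div, ← hsum, ← hprod]
      field_simp
      ring
    have hfix : σ ρ + (σ ρ)⁻¹ = ρ + ρ⁻¹ := by
      rw [← map_inv₀, ← map_add, hw, map_sub, map_mul, hc.invol, map_ofNat, mul_comm]
    have hσρ : σ ρ ≠ 0 := (map_ne_zero σ).2 hρ0
    have hz : (σ ρ - ρ) * (σ ρ * ρ - 1) = 0 := by
      have := hfix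
      field_simp at this
      linear_combination this
    rcases mul_eq_zero.1 hz with h | h
    · refine .inr (.inl (key _ ?_))
      have h1 : ρ ^ (2 * m + 1 - 1) = 1 := by
        rw [Nat.add_sub_cancel]
        exact mul_left_cancel₀ hρ0 (by rw [← pow_succ', ← hσ, sub_eq_zero.1 h, mul_one])
      rw [hμρ, mul_pow, h1, one_mul]
    · refine .inr (.inr (key _ ?_))
      have h1 : ρ ^ (2 * m + 1 + 1) = 1 := by
        rw [pow_succ, ← hσ, sub_eq_zero.1 h]
      rw [hμρ, mul_pow, h1, one_mul]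

end CfsgLib.Classical.GeoThree.SU.Singer
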